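import Mathlib
import Cfsg.Agent.SignalizersComponents.PerfectGoingUp

/-!
# ODD half, D8, `K = M23`: general lemmas (helper136)

* `exists_fixed_coset`, `le_of_le_commutator_sup`: nilpotent action;
* `exists_grow`: an involution `t` acting on a 2-group `F > N` fixes a coset of `N` in `N_F(N) - N`;
* `commutator_le_of_fix`: a perfect group `P` commuting with `t` which is trivial on the fixed points of
  `t` on `F / N` is trivial on `F / N`.
-/

set_option autoImplicit false

open scoped commutatorElement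

namespace Cfsg.Agent.OddHalf.M23

open Subgroup

variable {G : Type*} [Group G]

theorem exists_fixed_coset (S N₀ N₁ : Subgroup G) (hS : Group.IsNilpotent S) (h1S : N₁ ≤ S)
    (hn : S ≤ normalizer (N₁ : Set G)) (hlt : ¬ N₁ ≤ N₀) :
    ∃ x ∈ N₁, x ∉ N₀ ∧ ∀ s ∈ S, x * s * x⁻¹ * s⁻¹ ∈ N₀ := by
  classical
  have hex : ∃ n : ℕ, S.lowerCentralSeries n ⊓ N₁ ≤ N₀ := by
    obtain ⟨n, hn⟩ := (isNilpotent_iff_lowerCentralSeries S).1 hS
    refine ⟨n, ?_⟩
    rw [hn, bot_inf_eq]
    exact bot_le
  have h1 := Nat.find_spec hex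
  have h2 : Nat.find hex ≠ 0 := by
    intro h0
    rw [h0, Subgroup.lowerCentralSeries_zero, inf_eq_right.2 h1S] at h1
    exact hlt h1
  obtain ⟨m, hm⟩ := Nat.exists_eq_succ_of_ne_zero h2
  have h3 : ¬ S.lowerCentralSeries m ⊓ N₁ ≤ N₀ := Nat.find_min hex (by omega)
  rw [SetLike.not_le_iff_exists] at h3
  obtain ⟨x, ⟨hx1, hx2⟩, hx3⟩ := h3
  refine ⟨x, hx2, hx3, fun s hs => h1 ⟨?_, ?_⟩⟩
  · rw [hm]
    exact commutator_mem_commutator hx1 hs
  · have : s * x⁻¹ * s⁻¹ ∈ N₁ := (mem_normalizer_iff.1 (hn hs) _).1 (N₁.inv_mem hx2)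
    have e : x * s * x⁻¹ * s⁻¹ = x * (s * x⁻¹ * s⁻¹) := by group
    show _ ∈ N₁
    rw [e]
    exact N₁.mul_mem hx2 this

theorem le_of_le_commutator_sup (S F N₀ : Subgroup G) (hS : Group.IsNilpotent S) (hFS : F ≤ S)
    (hNS : N₀ ≤ S) (hn : S ≤ normalizer (N₀ : Set G)) (h : F ≤ ⁅F, S⁆ ⊔ N₀) : F ≤ N₀ := by
  have key : ∀ n : ℕ, F ≤ S.lowerCentralSeries n ⊔ N₀ := by
    intro n
    induction n with
    | zero => exact hFS.trans le_sup_left
    | succ n ih =>
      refine h.trans (sup_le ?_ le_sup_right)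
      have hKn : S ≤ normalizer ((S.lowerCentralSeries (n + 1) ⊔ N₀ : Subgroup G) : Set G) := by
        intro s hs
        exact normalizer_inf_normalizer_le_normalizer_sup _ _
          (mem_inf.2 ⟨S.self_le_normalizer_lowerCentralSeries (n + 1) hs, hn hs⟩)
      refine (commutator_mono ih le_rfl).trans ?_
      refine SignalizersComponents.PerfectGoingUp.sup_commutator_le ?_ ?_ ?_ ?_
      · exact (S.lowerCentralSeries_antitone (Nat.zero_le n)).trans hKn
      · exact hNS.trans hKn
      · exact le_sup_left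
      · exact (le_normalizer_iff_commutator_le_left.1 hn).trans le_sup_right
  obtain ⟨n, hn⟩ := (isNilpotent_iff_lowerCentralSeries S).1 hS
  have := key n
  rw [hn, bot_sup_eq] at this
  exact this

theorem isPGroup_zpowers {t : G} (h : t * t = 1) : IsPGroup 2 (zpowers t) := by
  rintro ⟨x, hx⟩
  obtain ⟨k, rfl⟩ := mem_zpowers_iff.1 hx
  refine ⟨1, Subtype.ext ?_⟩
  show (t ^ k) ^ 2 ^ 1 = 1
  have h2 : t ^ (2 : ℤ) = 1 := by
    rw [zpow_ofNat, pow_two]; exact h
  rw [pow_one, ← zpow_natCast, ← zpow_mul, mul_comm, zpow_mul]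
  have : t ^ ((2 : ℕ) : ℤ) = 1 := by exact_mod_cast h2
  rw [this, one_zpow]

/-- the group `F⟨t⟩` -/
theorem isPGroup_sup_zpowers (F : Subgroup G) {t : G} (htt : t * t = 1) (hF : IsPGroup 2 F)
    (htF : t ∈ normalizer (F : Set G)) : IsPGroup 2 (F ⊔ zpowers t : Subgroup G) := by
  have h1 : zpowers t ≤ normalizer (F : Set G) := by rw [zpowers_le]; exact htF
  exact hF.to_sup_of_normal_left' (isPGroup_zpowers htt) h1

/-- an involution acting on a 2-group fixes a coset in the normalizer -/
theorem exists_grow [Finite G] (F N : Subgroup G) {t : G} (htt : t * t = 1) (hF : IsPGroup 2 F)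
    (htF : t ∈ normalizer (F : Set G)) (htN : t ∈ normalizer (N : Set G)) (hNF : N ≤ F)
    (hne : ¬ F ≤ N) :
    ∃ x ∈ F, x ∉ N ∧ x ∈ normalizer (N : Set G) ∧ x * t * x⁻¹ * t⁻¹ ∈ N := by
  set N₁ : Subgroup G := F ⊓ normalizer (N : Set G) with hN₁
  -- the normalizer grows
  have hnil : Group.IsNilpotent F := hF.isNilpotent
  have h1 : ¬ N₁ ≤ N := by
    intro h
    have hlt : N.subgroupOf F < ⊤ := by
      rw [lt_top_iff_ne_top, Ne, subgroupOf_eq_top]
      exact hne
    have h2 := (Group.normalizerCondition_of_isNilpotent (G := F)) _ hlt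
    rw [SetLike.lt_iff_le_and_exists] at h2
    obtain ⟨⟨x, hxF⟩, hx1, hx2⟩ := h2.2
    apply hx2
    rw [mem_subgroupOf]
    refine h ⟨hxF, ?_⟩
    show x ∈ normalizer (N : Set G)
    rw [mem_normalizer_iff]
    intro y
    have h3 := mem_normalizer_iff.1 hx1
    constructor
    · intro hy
      exact (h3 ⟨y, hNF hy⟩).1 hy
    · intro hy
      have hyF : y ∈ F := by
        have h4 := hNF hy
        have e : y = x⁻¹ * (x * y * x⁻¹) * x := by group
        rw [e]
        exact F.mul_mem (F.mul_mem (F.inv_mem hxF) h4) hxF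
      exact (h3 ⟨y, hyF⟩).2 hy
  have htN₁ : t ∈ normalizer (N₁ : Set G) := by
    rw [mem_normalizer_iff]
    intro y
    have h2 : y ∈ normalizer (N : Set G) ↔ t * y * t⁻¹ ∈ normalizer (N : Set G) := by
      constructor
      · intro hy; exact mul_mem (mul_mem htN hy) (inv_mem htN)
      · intro hy
        have e : y = t⁻¹ * (t * y * t⁻¹) * t := by group
        rw [e]; exact mul_mem (mul_mem (inv_mem htN) hy) htN
    show y ∈ F ∧ y ∈ normalizer (N : Set G) ↔ t * y * t⁻¹ ∈ F ∧ t * y * t⁻¹ ∈ normalizer (N : Set G)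
    rw [mem_normalizer_iff.1 htF y, ← h2]
  have hS : IsPGroup 2 (N₁ ⊔ zpowers t : Subgroup G) :=
    isPGroup_sup_zpowers N₁ htt (hF.to_le inf_le_left) htN₁
  have hS' : Group.IsNilpotent (N₁ ⊔ zpowers t : Subgroup G) := hS.isNilpotent
  obtain ⟨x, hx1, hx2, hx3⟩ := exists_fixed_coset (N₁ ⊔ zpowers t) N N₁ hS' le_sup_left
    (sup_le le_normalizer (by rw [zpowers_le]; exact htN₁)) h1
  exact ⟨x, hx1.1, hx2, hx1.2, hx3 t ((le_sup_right : zpowers t ≤ _) (mem_zpowers t))⟩

theorem mem_normalizer_commutator {A B : Subgroup G} {x : G} (hA : x ∈ normalizer (A : Set G))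
    (hB : x ∈ normalizer (B : Set G)) : x ∈ normalizer ((⁅A, B⁆ : Subgroup G) : Set G) := by
  rw [mem_normalizer_iff_map_conj_eq] at hA hB ⊢
  rw [map_commutator, hA, hB]

theorem mem_normalizer_sup {A B : Subgroup G} {x : G} (hA : x ∈ normalizer (A : Set G))
    (hB : x ∈ normalizer (B : Set G)) : x ∈ normalizer ((A ⊔ B : Subgroup G) : Set G) :=
  normalizer_inf_normalizer_le_normalizer_sup _ _ (mem_inf.2 ⟨hA, hB⟩)

theorem mem_normalizer_of_comm {A : Subgroup G} {x : G} (h : ∀ a ∈ A, a * x = x * a) :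
    x ∈ normalizer (A : Set G) := by
  rw [mem_normalizer_iff]
  intro y
  constructor
  · intro hy
    rw [← h y hy, mul_inv_cancel_right]; exact hy
  · intro hy
    have h1 := h _ hy
    have e : x * y = x * (x * y * x⁻¹) := by rw [← h1]; group
    have : y = x * y * x⁻¹ := mul_left_cancel e
    rw [this]; exact hy

theorem commutator_le_of_fix [Finite G] (N P : Subgroup G) {t : G} (htt : t * t = 1)
    (hP : ⁅P, P⁆ = P) (hPt : ∀ p ∈ P, p * t = t * p) (hPN : P ≤ normalizer (N : Set G))
    (htN : t ∈ normalizer (N : Set G)) :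
    ∀ (n : ℕ) (F : Subgroup G), Nat.card F ≤ n → IsPGroup 2 F → N ≤ F →
      F ≤ normalizer (N : Set G) → P ≤ normalizer (F : Set G) → t ∈ normalizer (F : Set G) →
      (∀ x ∈ F, x * t * x⁻¹ * t⁻¹ ∈ N → ∀ p ∈ P, p * x * p⁻¹ * x⁻¹ ∈ N) → ⁅P, F⁆ ≤ N := by
  intro n
  induction n with
  | zero =>
    intro F hn
    exact absurd hn (Nat.not_le.2 Nat.card_pos)
  | succ n ih =>
    intro F hn hF hNF hFN hPF htF hfix
    have htP : t ∈ normalizer (P : Set G) := mem_normalizer_of_comm hPt
    have hPT : P ≤ normalizer (zpowers t : Set G) := by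
      intro p hp
      apply mem_normalizer_of_comm
      intro y hy
      obtain ⟨k, rfl⟩ := mem_zpowers_iff.1 hy
      have : Commute p t := hPt p hp
      exact (this.zpow_right k).symm.eq
    by_cases hle : F ≤ N
    · exact (commutator_mono le_rfl hle).trans (le_normalizer_iff_commutator_le_right.1 hPN)
    have hcl : ∀ F' : Subgroup G, F' ≤ F → F' ≠ F → N ≤ F' → P ≤ normalizer (F' : Set G) →
        t ∈ normalizer (F' : Set G) → ⁅P, F'⁆ ≤ N := by
      intro F' h1 h2 h3 h4 h5
      refine ih F' ?_ (hF.to_le h1) h3 (h1.trans hFN) h4 h5 (fun x hx => hfix x (h1 hx))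
      have h6 : Nat.card F' ≠ Nat.card F := fun e => h2 (eq_of_le_of_card_ge h1 e.ge)
      have h7 : Nat.card F' ≤ Nat.card F := card_le_of_le h1
      omega
    have hPFle : ⁅P, F⁆ ≤ F := le_normalizer_iff_commutator_le_right.1 hPF
    by_cases h1 : ⁅P, F⁆ ⊔ N = F
    · -- then use `[F, t]`
      have hFTle : ⁅F, zpowers t⁆ ≤ F :=
        le_normalizer_iff_commutator_le_left.1 (by rw [zpowers_le]; exact htF)
      have h2 : ⁅F, zpowers t⁆ ⊔ N ≠ F := by
        intro e
        apply hle
        refine le_of_le_commutator_sup (F ⊔ zpowers t) F N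
          (isPGroup_sup_zpowers F htt hF htF).isNilpotent le_sup_left (hNF.trans le_sup_left)
          (sup_le hFN (by rw [zpowers_le]; exact htN)) ?_
        calc F = ⁅F, zpowers t⁆ ⊔ N := e.symm
          _ ≤ ⁅F, F ⊔ zpowers t⁆ ⊔ N := sup_le_sup_right (commutator_mono le_rfl le_sup_right) _
      have h3 := hcl _ (sup_le hFTle hNF) h2 le_sup_right
        (fun p hp => mem_normalizer_sup (mem_normalizer_commutator (hPF hp) (hPT hp)) (hPN hp))
        (mem_normalizer_sup (mem_normalizer_commutator htF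
          (le_normalizer (mem_zpowers t))) htN)
      have h4 : ⁅⁅P, F⁆, zpowers t⁆ ≤ N := by
        refine SignalizersComponents.PerfectGoingUp.three_subgroups_mod hPN hFN
          (by rw [zpowers_le]; exact htN) ?_ ?_
        · rw [commutator_comm]
          exact (commutator_mono le_rfl le_sup_left).trans h3
        · have : ⁅zpowers t, P⁆ = ⊥ := by
            rw [commutator_eq_bot_iff_le_centralizer]
            intro y hy
            rw [mem_centralizer_iff]
            intro p hp
            obtain ⟨k, rfl⟩ := mem_zpowers_iff.1 hy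
            have : Commute p t := hPt p hp
            exact (this.zpow_right k).eq
          rw [this, commutator_bot_left]
          exact bot_le
      have h5 : ⁅F, zpowers t⁆ ≤ N := by
        rw [← h1]
        exact SignalizersComponents.PerfectGoingUp.sup_commutator_le (hPFle.trans hFN)
          le_normalizer h4
          (le_normalizer_iff_commutator_le_left.1 (by rw [zpowers_le]; exact htN))
      rw [commutator_le]
      intro p hp x hx
      exact hfix x hx (h5 (commutator_mem_commutator hx (mem_zpowers t))) p hp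
    · have h2 := hcl _ (sup_le hPFle hNF) h1 le_sup_right
        (fun p hp => mem_normalizer_sup (mem_normalizer_commutator (le_normalizer hp) (hPF hp)) (hPN hp))
        (mem_normalizer_sup (mem_normalizer_commutator htP htF) htN)
      have h3 : ⁅⁅P, F⁆, P⁆ ≤ N := by
        rw [commutator_comm]
        exact (commutator_mono le_rfl le_sup_left).trans h2
      have h4 : ⁅⁅P, P⁆, F⁆ ≤ N := by
        refine SignalizersComponents.PerfectGoingUp.three_subgroups_mod hPN hPN hFN h3 ?_
        rw [commutator_comm F P]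
        exact h3
      rwa [hP] at h4

end Cfsg.Agent.OddHalf.M23
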