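import Cfsg.Agent.OddHalf.M23.Fun

/-!
# ODD half, D8, `K = M23`: the core of `C_G(z)` (helper136)

`J₁ = A × f(A)` (elementary abelian of order `2^8`). Result (`F_eq`): `F₀ = O_2(C_G(z)) = J₁`.
-/

set_option autoImplicit false

open scoped commutatorElement

namespace Cfsg.Agent.OddHalf.M23

open Subgroup

variable {G : Type*} [Group G]

theorem mem_normalizer_inf {B C : Subgroup G} {x : G} (hB : x ∈ normalizer (B : Set G))
    (hC : x ∈ normalizer (C : Set G)) : x ∈ normalizer ((B ⊓ C : Subgroup G) : Set G) := by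
  rw [mem_normalizer_iff]
  intro y
  show y ∈ B ∧ y ∈ C ↔ x * y * x⁻¹ ∈ B ∧ x * y * x⁻¹ ∈ C
  rw [mem_normalizer_iff.1 hB y, mem_normalizer_iff.1 hC y]

/-- to normalise a finite subgroup it is enough to map it into itself -/
theorem mem_normalizer_of_le [Finite G] {B : Subgroup G} {x : G} (h : ∀ b ∈ B, x * b * x⁻¹ ∈ B) :
    x ∈ normalizer (B : Set G) := by
  rw [mem_normalizer_iff_map_conj_eq]
  refine eq_of_le_of_card_ge ?_ ?_
  · rintro _ ⟨b, hb, rfl⟩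
    exact h b hb
  · have hinj : Function.Injective ((MulAut.conj x).toMonoidHom : G →* G) := (MulAut.conj x).injective
    exact (card_map_of_injective hinj).ge

/-- two-step argument -/
theorem sq_comm_of_two_step {N F : Subgroup G} (hN : ∀ a ∈ N, a * a = 1) {y : G}
    (hy : ∀ a ∈ N, y * a = a * y) (hF : ∀ x ∈ F, y * x * y⁻¹ * x⁻¹ ∈ N) :
    ∀ x ∈ F, y * y * x = x * (y * y) := by
  intro x hx
  have h1 := hF x hx
  set d := y * x * y⁻¹ * x⁻¹ with hd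
  have e1 : y * x = d * x * y := by rw [hd]; group
  calc y * y * x = y * (y * x) := by group
    _ = y * (d * x * y) := by rw [e1]
    _ = (y * d) * x * y := by group
    _ = (d * y) * x * y := by rw [hy d h1]
    _ = d * (y * x) * y := by group
    _ = d * (d * x * y) * y := by rw [e1]
    _ = (d * d) * x * (y * y) := by group
    _ = x * (y * y) := by rw [hN d h1, one_mul]

/-- elements whose square is a 2-element -/
theorem isPGroup_of_sq {Y F : Subgroup G} (hF : IsPGroup 2 F) (h : ∀ y ∈ Y, y * y ∈ F) :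
    IsPGroup 2 Y := by
  rintro ⟨y, hy⟩
  obtain ⟨k, hk⟩ := hF ⟨y * y, h y hy⟩
  refine ⟨k + 1, Subtype.ext ?_⟩
  have hk' : (y * y) ^ 2 ^ k = 1 := congrArg Subtype.val hk
  show y ^ 2 ^ (k + 1) = 1
  rw [pow_succ', pow_mul, pow_two]
  exact hk'

namespace Cfg

variable {K A : Subgroup G} {z k v₁ v₂ b w₁ w₂ c h : G}

theorem v₁sq (hc : Cfg K A z k v₁ v₂ b w₁ w₂ c h) (hK : KFacts K A z) : v₁ * v₁ = 1 := by
  have := hK.sq _ hc.v₁A
  calc v₁ * v₁ = k * (k⁻¹ * v₁ * k * (k⁻¹ * v₁ * k)) * k⁻¹ := by group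
    _ = 1 := by rw [this]; group

theorem v₂sq (hc : Cfg K A z k v₁ v₂ b w₁ w₂ c h) (hK : KFacts K A z) : v₂ * v₂ = 1 := by
  have := hK.sq _ hc.v₂A
  calc v₂ * v₂ = k * (k⁻¹ * v₂ * k * (k⁻¹ * v₂ * k)) * k⁻¹ := by group
    _ = 1 := by rw [this]; group

theorem v₁K (hc : Cfg K A z k v₁ v₂ b w₁ w₂ c h) (hK : KFacts K A z) : v₁ ∈ K := by
  have := hK.AK hc.v₁A
  have e : v₁ = k * (k⁻¹ * v₁ * k) * k⁻¹ := by group
  rw [e]
  exact K.mul_mem (K.mul_mem hc.kK this) (K.inv_mem hc.kK)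

theorem v₂K (hc : Cfg K A z k v₁ v₂ b w₁ w₂ c h) (hK : KFacts K A z) : v₂ ∈ K := by
  have := hK.AK hc.v₂A
  have e : v₂ = k * (k⁻¹ * v₂ * k) * k⁻¹ := by group
  rw [e]
  exact K.mul_mem (K.mul_mem hc.kK this) (K.inv_mem hc.kK)

theorem v₁P (hc : Cfg K A z k v₁ v₂ b w₁ w₂ c h) (hK : KFacts K A z) : v₁ ∈ PP K z :=
  ⟨hc.v₁K hK, mem_cz.2 hc.v₁z⟩

theorem v₂P (hc : Cfg K A z k v₁ v₂ b w₁ w₂ c h) (hK : KFacts K A z) : v₂ ∈ PP K z :=
  ⟨hc.v₂K hK, mem_cz.2 hc.v₂z⟩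

theorem bv_ne (hc : Cfg K A z k v₁ v₂ b w₁ w₂ c h) : b * v₁ ≠ v₁ * b := by
  intro e
  apply hc.w₁1
  rw [← hc.bv₁, e]; group

theorem v₁1 (hc : Cfg K A z k v₁ v₂ b w₁ w₂ c h) : v₁ ≠ 1 := by
  rintro rfl
  exact hc.bv_ne (by group)

theorem v₁_not (hc : Cfg K A z k v₁ v₂ b w₁ w₂ c h) (hK : KFacts K A z) : v₁ ∉ A := fun hv =>
  hc.bv_ne (hK.comm hc.bA hv)

theorem w₁v₁ (hc : Cfg K A z k v₁ v₂ b w₁ w₂ c h) (hK : KFacts K A z) : w₁ * v₁ = v₁ * w₁ := by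
  have hvv := hc.v₁sq hK
  have hvi : v₁⁻¹ = v₁ := inv_eq_of_mul_eq_one_left hvv
  have hbi := hK.inv hc.bA
  have hb1i := hK.inv hc.w₁A
  have e1 := hc.bv₁
  have e2 : v₁ * w₁ * v₁⁻¹ = w₁⁻¹ := by
    rw [← e1, mul_inv_rev, mul_inv_rev, mul_inv_rev, inv_inv, inv_inv, hbi, hvi]
    calc v₁ * (b * v₁ * b * v₁) * v₁ = v₁ * b * v₁ * b * (v₁ * v₁) := by group
      _ = v₁ * (b * (v₁ * b)) := by rw [hvv]; group
  rw [hb1i] at e2
  exact (conj_eq_iff.1 e2).symm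

/-- `b` is not in `{1, z}` -/
theorem b_ne (hc : Cfg K A z k v₁ v₂ b w₁ w₂ c h) : ¬ (b = 1 ∨ b = z) := by
  rintro (rfl | rfl)
  · exact hc.bv_ne (by group)
  · exact hc.bv_ne hc.v₁z.symm

end Cfg

namespace Hyp

variable {t z : G} {K A F₀ : Subgroup G}

theorem P_le_H (_h : Hyp t z K A F₀) : PP K z ≤ centralizer ({z} : Set G) := inf_le_right

theorem A_le_H (h : Hyp t z K A F₀) : A ≤ centralizer ({z} : Set G) :=
  h.A_le_P.trans inf_le_right

theorem Pt (h : Hyp t z K A F₀) {p : G} (hp : p ∈ PP K z) : p * t = t * p := h.Kt p hp.1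

theorem coreF (h : Hyp t z K A F₀) {k : G} (hk : k ∈ PP K z) (hF : k ∈ F₀) : k ∈ A := by
  refine h.core (PP K z ⊓ F₀) inf_le_left (h.F2.to_le inf_le_right) ?_ ⟨hk, hF⟩
  intro p hp
  exact (mem_normalizer_inf (le_normalizer hp) (h.FN (h.P_le_H hp)))

end Hyp

namespace Fn

variable {t z : G} {K A F₀ : Subgroup G} {f : G → G}

/-- `J₁ = A f(A)` -/
def J₁ (hf : Fn t z K f) (h : Hyp t z K A F₀) : Subgroup G where
  carrier := {x | ∃ a ∈ A, ∃ b ∈ A, x = a * f b}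
  mul_mem' := by
    rintro _ _ ⟨a, ha, b, hb, rfl⟩ ⟨c, hc, d, hd, rfl⟩
    refine ⟨a * c, A.mul_mem ha hc, b * d, A.mul_mem hb hd, ?_⟩
    rw [hf.mul h hb hd]
    calc a * f b * (c * f d) = a * (f b * c) * f d := by group
      _ = a * (c * f b) * f d := by rw [hf.Acomm h hc hb]
      _ = _ := by group
  one_mem' := ⟨1, A.one_mem, 1, A.one_mem, by rw [hf.one, one_mul]⟩
  inv_mem' := by
    rintro _ ⟨a, ha, b, hb, rfl⟩
    refine ⟨a, ha, b, hb, ?_⟩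
    rw [mul_inv_rev, hf.inv, h.toKFacts.inv ha, hf.Acomm h ha hb]

theorem mem_J₁ (hf : Fn t z K f) (h : Hyp t z K A F₀) {x : G} :
    x ∈ hf.J₁ h ↔ ∃ a ∈ A, ∃ b ∈ A, x = a * f b := Iff.rfl

theorem A_le_J₁ (hf : Fn t z K f) (h : Hyp t z K A F₀) : A ≤ hf.J₁ h := fun a ha =>
  ⟨a, ha, 1, A.one_mem, by rw [hf.one, mul_one]⟩

theorem f_mem_J₁ (hf : Fn t z K f) (h : Hyp t z K A F₀) {b : G} (hb : b ∈ A) : f b ∈ hf.J₁ h :=
  ⟨1, A.one_mem, b, hb, by rw [one_mul]⟩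

theorem J₁_sq (hf : Fn t z K f) (h : Hyp t z K A F₀) {x : G} (hx : x ∈ hf.J₁ h) : x * x = 1 := by
  obtain ⟨a, ha, b, hb, rfl⟩ := hx
  calc a * f b * (a * f b) = a * (f b * a) * f b := by group
    _ = a * (a * f b) * f b := by rw [hf.Acomm h ha hb]
    _ = (a * a) * (f b * f b) := by group
    _ = 1 := by rw [h.sq a ha, hf.sq, one_mul]

theorem J₁_comm (hf : Fn t z K f) (h : Hyp t z K A F₀) {x y : G} (hx : x ∈ hf.J₁ h)
    (hy : y ∈ hf.J₁ h) : x * y = y * x := by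
  have h1 := hf.J₁_sq h (mul_mem hx hy)
  have e1 : x⁻¹ = x := inv_eq_of_mul_eq_one_left (hf.J₁_sq h hx)
  have e2 : y⁻¹ = y := inv_eq_of_mul_eq_one_left (hf.J₁_sq h hy)
  have e3 : (x * y)⁻¹ = x * y := inv_eq_of_mul_eq_one_left h1
  rw [← e3, mul_inv_rev, e1, e2]

theorem J₁_two (hf : Fn t z K f) (h : Hyp t z K A F₀) : IsPGroup 2 (hf.J₁ h) := by
  rintro ⟨x, hx⟩
  refine ⟨1, Subtype.ext ?_⟩
  show x ^ 2 ^ 1 = 1
  rw [pow_one, pow_two]
  exact hf.J₁_sq h hx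

theorem fH (hf : Fn t z K f) (h : Hyp t z K A F₀) {b : G} (hb : b ∈ A) :
    f b ∈ centralizer ({z} : Set G) := mem_cz.2 (hf.Acomm h h.zA hb).symm

theorem J₁_le_H (hf : Fn t z K f) (h : Hyp t z K A F₀) : hf.J₁ h ≤ centralizer ({z} : Set G) := by
  rintro _ ⟨a, ha, b, hb, rfl⟩
  exact mul_mem (h.A_le_H ha) (hf.fH h hb)

/-- an element of `K` normalising `A` normalises `J₁` -/
theorem norJ₁ [Finite G] (hf : Fn t z K f) (h : Hyp t z K A F₀) {n : G} (hn : n ∈ K)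
    (hnA : n ∈ normalizer (A : Set G)) : n ∈ normalizer (hf.J₁ h : Set G) := by
  apply mem_normalizer_of_le
  rintro _ ⟨a, ha, b, hb, rfl⟩
  refine ⟨n * a * n⁻¹, (mem_normalizer_iff.1 hnA a).1 ha, n * b * n⁻¹,
    (mem_normalizer_iff.1 hnA b).1 hb, ?_⟩
  rw [hf.conj n hn]
  group

theorem t_norJ₁ [Finite G] (hf : Fn t z K f) (h : Hyp t z K A F₀) :
    t ∈ normalizer (hf.J₁ h : Set G) := by
  apply mem_normalizer_of_le
  rintro _ ⟨a, ha, b, hb, rfl⟩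
  refine ⟨a * b, A.mul_mem ha hb, b, hb, ?_⟩
  calc t * (a * f b) * t⁻¹ = (t * a) * f b * t := by rw [h.t_inv]; group
    _ = a * (t * f b * t) := by rw [h.tA ha]; group
    _ = a * (b * f b) := by rw [hf.t_conj h hb, hf.Acomm h hb hb]
    _ = _ := by group

/-- the commutator of `t` with an element of `J₁` -/
theorem comm_t (hf : Fn t z K f) (h : Hyp t z K A F₀) {a b : G} (ha : a ∈ A) (hb : b ∈ A) :
    a * f b * t = t * b * (a * f b) := by
  calc a * f b * t = a * (f b * t) := by group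
    _ = a * (t * b * f b) := by rw [hf.t_mul h hb]
    _ = (a * t) * b * f b := by group
    _ = (t * a) * b * f b := by rw [h.tA ha]
    _ = t * (a * b) * f b := by group
    _ = t * (b * a) * f b := by rw [h.toKFacts.comm ha hb]
    _ = _ := by group

/-- the group `⟨t⟩J₁` -/
abbrev JJ (hf : Fn t z K f) (h : Hyp t z K A F₀) : Subgroup G := hf.J₁ h ⊔ zpowers t

theorem JJ_two [Finite G] (hf : Fn t z K f) (h : Hyp t z K A F₀) : IsPGroup 2 (hf.JJ h) :=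
  isPGroup_sup_zpowers _ h.tt (hf.J₁_two h) (hf.t_norJ₁ h)

theorem JJ_le_H (hf : Fn t z K f) (h : Hyp t z K A F₀) : hf.JJ h ≤ centralizer ({z} : Set G) :=
  sup_le (hf.J₁_le_H h) (by rw [zpowers_le]; exact h.tH)

/-- an element of `P` in `F₀⟨t⟩J₁` lies in `A` -/
theorem core_JJ [Finite G] (hf : Fn t z K f) (h : Hyp t z K A F₀) {k : G} (hk : k ∈ PP K z)
    (hF : k ∈ F₀ ⊔ hf.JJ h) : k ∈ A := by
  have h2 : IsPGroup 2 (F₀ ⊔ hf.JJ h : Subgroup G) :=
    h.F2.to_sup_of_normal_left' (hf.JJ_two h) ((hf.JJ_le_H h).trans h.FN)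
  refine h.core (PP K z ⊓ (F₀ ⊔ hf.JJ h)) inf_le_left (h2.to_le inf_le_right) ?_ ⟨hk, hF⟩
  intro p hp
  refine mem_normalizer_inf (le_normalizer hp) (mem_normalizer_sup (h.FN (h.P_le_H hp)) ?_)
  refine mem_normalizer_sup (hf.norJ₁ h hp.1 (h.norA hp)) ?_
  apply mem_normalizer_of_comm
  intro y hy
  obtain ⟨i, rfl⟩ := mem_zpowers_iff.1 hy
  have : Commute p t := h.Pt hp
  exact (this.zpow_right i).symm.eq

/-- `t ∉ F₀` -/
theorem t_not_mem (hf : Fn t z K f) (h : Hyp t z K A F₀) : t ∉ F₀ := by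
  intro htF
  obtain ⟨k, v₁, v₂, b, w₁, w₂, c, h', hc⟩ := h.cfg
  have hK := h.toKFacts
  have hv1 : k⁻¹ * v₁ * k ≠ 1 := by
    intro e
    apply hc.v₁1
    calc v₁ = k * (k⁻¹ * v₁ * k) * k⁻¹ := by group
      _ = 1 := by rw [e]; group
  obtain ⟨n, hn, -, hnz⟩ := hK.exists_conj hc.v₁A hv1
  have ev : v₁ = (k * n) * z * (k * n)⁻¹ := by
    calc v₁ = k * (k⁻¹ * v₁ * k) * k⁻¹ := by group
      _ = k * (n * z * n⁻¹) * k⁻¹ := by rw [hnz]
      _ = _ := by group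
  have h1 : f v₁ * t = t * v₁ * f v₁ := by
    have := hf.tc (k * n) (K.mul_mem hc.kK hn)
    rw [← ev] at this
    exact this
  have hfv : f v₁ ∈ centralizer ({z} : Set G) :=
    mem_cz.2 (hf.comm (h.AK h.zA) hc.v₁z.symm).symm
  have h2 : f v₁ * t * (f v₁)⁻¹ ∈ F₀ := (mem_normalizer_iff.1 (h.FN hfv) t).1 htF
  have h3 : t * v₁ ∈ F₀ := by
    have : f v₁ * t * (f v₁)⁻¹ = t * v₁ := by rw [h1]; group
    rwa [this] at h2
  have h4 : v₁ ∈ F₀ := by
    have e : v₁ = t⁻¹ * (t * v₁) := by group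
    rw [e]; exact F₀.mul_mem (F₀.inv_mem htF) h3
  exact hc.v₁_not hK (h.coreF (hc.v₁P hK) h4)

theorem ta_not_mem (hf : Fn t z K f) (h : Hyp t z K A F₀) {a : G} (ha : a ∈ A) : t * a ∉ F₀ := by
  intro hta
  apply hf.t_not_mem h
  have h2 : f a * (t * a) * (f a)⁻¹ ∈ F₀ := (mem_normalizer_iff.1 (h.FN (hf.fH h ha)) _).1 hta
  have : f a * (t * a) * (f a)⁻¹ = t := by
    calc f a * (t * a) * (f a)⁻¹ = (f a * t) * a * (f a)⁻¹ := by group
      _ = t * a * (f a * a) * (f a)⁻¹ := by rw [hf.t_mul h ha]; group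
      _ = t * a * (a * f a) * (f a)⁻¹ := by rw [hf.Acomm h ha ha]
      _ = t * (a * a) := by group
      _ = t := by rw [h.sq a ha, mul_one]
  rwa [this] at h2

/-- `C_{F₀}(t) ≤ A` -/
theorem cen_t [Finite G] (hf : Fn t z K f) (h : Hyp t z K A F₀) {x : G} (hx : x ∈ F₀)
    (hxt : x * t = t * x) : x ∈ A := by
  obtain ⟨k, hk, e⟩ := h.cen' hxt
  have hxH := h.Fz hx
  have htJ : t ∈ F₀ ⊔ hf.JJ h :=
    (le_sup_right : hf.JJ h ≤ _) ((le_sup_right : zpowers t ≤ _) (mem_zpowers t))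
  have hk' : k = x ∨ k = t * x := by
    rcases e with e | e
    · exact Or.inl e.symm
    · right; rw [e, ← mul_assoc, h.tt, one_mul]
  have hkH : k ∈ centralizer ({z} : Set G) := by
    rcases hk' with e | e
    · rw [e]; exact hxH
    · rw [e]; exact mul_mem h.tH hxH
  have hkF : k ∈ F₀ ⊔ hf.JJ h := by
    rcases hk' with e | e
    · rw [e]; exact (le_sup_left : F₀ ≤ _) hx
    · rw [e]; exact mul_mem htJ ((le_sup_left : F₀ ≤ _) hx)
  have hkA := hf.core_JJ h ⟨hk, hkH⟩ hkF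
  rcases e with e | e
  · rw [e]; exact hkA
  · rw [e] at hx; exact absurd hx (hf.ta_not_mem h hkA)

/-- `A ≤ F₀` -/
theorem A_le_F [Finite G] (hf : Fn t z K f) (h : Hyp t z K A F₀) : A ≤ F₀ := by
  obtain ⟨k, v₁, v₂, b, w₁, w₂, c, h', hc⟩ := h.cfg
  have hK := h.toKFacts
  rcases h.sub (F₀ ⊓ A) inf_le_right
    (fun p hp => mem_normalizer_inf (h.FN (h.P_le_H hp)) (h.norA hp)) with h1 | h1
  · exfalso
    have h2 : ⁅PP K z, F₀⁆ ≤ ⊥ := by
      refine commutator_le_of_fix ⊥ (PP K z) h.tt h.perf (fun p hp => h.Pt hp) ?_ ?_ _ F₀ le_rfl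
        h.F2 bot_le ?_ ((h.P_le_H).trans h.FN) (h.FN h.tH) ?_
      · intro p _; exact mem_normalizer_of_comm (fun a ha => by rw [mem_bot.1 ha]; group)
      · exact mem_normalizer_of_comm (fun a ha => by rw [mem_bot.1 ha]; group)
      · intro p _; exact mem_normalizer_of_comm (fun a ha => by rw [mem_bot.1 ha]; group)
      · intro x hx hxt p hp
        rw [mem_bot] at hxt ⊢
        have hxt' : x * t = t * x := by
          calc x * t = (x * t * x⁻¹ * t⁻¹) * (t * x) := by group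
            _ = t * x := by rw [hxt, one_mul]
        rcases h1 x ⟨hx, hf.cen_t h hx hxt'⟩ with e | e
        · rw [e]; group
        · rw [e, mem_cz.1 hp.2]; group
    rw [le_bot_iff, commutator_eq_bot_iff_le_centralizer] at h2
    have h3 : v₁ ∈ F₀ := h.Fcen v₁ (mem_cz.2 hc.v₁z) (fun y hy =>
      (mem_centralizer_iff.1 (h2 (hc.v₁P hK)) y hy).symm)
    exact hc.v₁_not hK (h.coreF (hc.v₁P hK) h3)
  · exact h1.trans inf_le_left

/-- the elements of `F₀` with `[x, t] ∈ A` -/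
theorem X₀ [Finite G] (hf : Fn t z K f) (h : Hyp t z K A F₀) {x : G} (hx : x ∈ F₀)
    (hxt : x * t * x⁻¹ * t⁻¹ ∈ A) :
    ∃ a ∈ A, ∃ b ∈ A, x = a * f b ∨ x = t * (a * f b) := by
  set b := x * t * x⁻¹ * t⁻¹ with hb
  have hxt' : x * t = b * t * x := by rw [hb]; group
  have hbt : b * t = t * b := (h.tA hxt).symm
  set g := f b * x with hg
  have hgt : g * t = t * g := by
    calc g * t = f b * (x * t) := by rw [hg]; group
      _ = f b * (b * t * x) := by rw [hxt']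
      _ = f b * (t * b * x) := by rw [hbt]
      _ = (f b * t) * (b * x) := by group
      _ = t * b * f b * (b * x) := by rw [hf.t_mul h hxt]
      _ = t * b * (f b * b) * x := by group
      _ = t * b * (b * f b) * x := by rw [hf.Acomm h hxt hxt]
      _ = t * (b * b) * (f b * x) := by group
      _ = t * g := by rw [h.sq b hxt, mul_one, hg]
  obtain ⟨k, hk, e⟩ := h.cen' hgt
  have hk' : k = g ∨ k = t * g := by
    rcases e with e | e
    · exact Or.inl e.symm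
    · right; rw [e, ← mul_assoc, h.tt, one_mul]
  have hfbJ : f b ∈ F₀ ⊔ hf.JJ h :=
    (le_sup_right : hf.JJ h ≤ _) ((le_sup_left : hf.J₁ h ≤ _) (hf.f_mem_J₁ h hxt))
  have htJ : t ∈ F₀ ⊔ hf.JJ h :=
    (le_sup_right : hf.JJ h ≤ _) ((le_sup_right : zpowers t ≤ _) (mem_zpowers t))
  have hgF : g ∈ F₀ ⊔ hf.JJ h := mul_mem hfbJ ((le_sup_left : F₀ ≤ _) hx)
  have hgH : g ∈ centralizer ({z} : Set G) := mul_mem (hf.fH h hxt) (h.Fz hx)
  have hkA : k ∈ A := by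
    apply hf.core_JJ h
    · refine ⟨hk, ?_⟩
      rcases hk' with e | e
      · rw [e]; exact hgH
      · rw [e]; exact mul_mem h.tH hgH
    · rcases hk' with e | e
      · rw [e]; exact hgF
      · rw [e]; exact mul_mem htJ hgF
  have hxg : x = f b * g := by rw [hg, ← mul_assoc, hf.sq, one_mul]
  rcases e with e | e
  · exact ⟨k, hkA, b, hxt, Or.inl (by rw [hxg, e, hf.Acomm h hkA hxt])⟩
  · refine ⟨b * k, A.mul_mem hxt hkA, b, hxt, Or.inr ?_⟩
    calc x = (f b * t) * k := by rw [hxg, e]; group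
      _ = t * b * (f b * k) := by rw [hf.t_mul h hxt]; group
      _ = t * b * (k * f b) := by rw [hf.Acomm h hkA hxt]
      _ = _ := by group

end Fn

end Cfsg.Agent.OddHalf.M23
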