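import Cfsg.Agent.OddHalf.M23.Core

/-!
# ODD half, D8, `K = M23`: `O_2(C_G(z)) = J₁` (helper136)
-/

set_option autoImplicit false

open scoped commutatorElement

namespace Cfsg.Agent.OddHalf.M23

open Subgroup

variable {G : Type*} [Group G]

theorem normal_bot_mem (x : G) : x ∈ normalizer ((⊥ : Subgroup G) : Set G) :=
  mem_normalizer_of_comm (fun a ha => by rw [mem_bot.1 ha]; group)

namespace KFacts

variable {K A : Subgroup G} {z : G}

/-- `A = [A, P]` -/
theorem A_le_comm (h : KFacts K A z) : A ≤ ⁅A, PP K z⁆ := by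
  have hAP : ⁅A, PP K z⁆ ≤ A := le_normalizer_iff_commutator_le_left.1 h.norA
  rcases h.sub _ hAP (fun p hp => mem_normalizer_commutator (h.norA hp) (le_normalizer hp))
    with h1 | h1
  · exfalso
    have h2 : ⁅⁅A, PP K z⁆, PP K z⁆ ≤ ⊥ := by
      rw [commutator_le]
      intro x hx p hp
      rw [mem_bot, commutatorElement_eq_one_iff_mul_comm]
      rcases h1 x hx with rfl | rfl
      · group
      · exact (mem_cz.1 hp.2).symm
    have h3 : ⁅⁅PP K z, PP K z⁆, A⁆ ≤ ⊥ :=
      SignalizersComponents.PerfectGoingUp.three_subgroups_mod (fun x _ => normal_bot_mem x)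
        (fun x _ => normal_bot_mem x) (fun x _ => normal_bot_mem x)
        (by rw [commutator_comm (PP K z) A]; exact h2) h2
    rw [h.perf, le_bot_iff, commutator_eq_bot_iff_le_centralizer] at h3
    obtain ⟨k, v₁, v₂, b, w₁, w₂, c, h', hc⟩ := h.cfg
    have h4 := mem_centralizer_iff.1 (h3 (hc.v₁P h)) b hc.bA
    exact hc.bv_ne h4
  · exact h1

end KFacts

namespace Fn

variable {t z : G} {K A F₀ : Subgroup G} {f : G → G}

/-- if `F₀` does not meet `t f(A)`, then `F₀ = J₁` -/
theorem F_eq_of_not [Finite G] (hf : Fn t z K f) (h : Hyp t z K A F₀)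
    (hno : ∀ b ∈ A, t * f b ∉ F₀) : F₀ = hf.J₁ h := by
  have hle : F₀ ≤ hf.J₁ h := by
    by_contra hcon
    have h1 : ¬ F₀ ≤ F₀ ⊓ hf.J₁ h := fun h2 => hcon (h2.trans inf_le_right)
    obtain ⟨w, hwF, hwN, -, hwt⟩ := exists_grow F₀ (F₀ ⊓ hf.J₁ h) h.tt h.F2 (h.FN h.tH)
      (mem_normalizer_inf (h.FN h.tH) (hf.t_norJ₁ h)) inf_le_left h1
    obtain ⟨a, ha, b, hb, e⟩ := hwt.2
    -- `[w, t] = a f(b)`, so `b = 1`
    have e1 : w * t * w⁻¹ = a * f b * t := by
      rw [← e]; group
    have e2 : (a * f b * t) * (a * f b * t) = b := by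
      calc (a * f b * t) * (a * f b * t) = a * f b * (t * a) * (f b * t) := by group
        _ = a * f b * (a * t) * (f b * t) := by rw [h.tA ha]
        _ = a * (f b * a) * (t * f b * t) := by group
        _ = a * (a * f b) * (f b * b) := by rw [hf.Acomm h ha hb, hf.t_conj h hb]
        _ = (a * a) * (f b * f b) * b := by group
        _ = b := by rw [h.sq a ha, hf.sq, one_mul, one_mul]
    have e3 : (w * t * w⁻¹) * (w * t * w⁻¹) = 1 := by
      calc (w * t * w⁻¹) * (w * t * w⁻¹) = w * (t * t) * w⁻¹ := by group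
        _ = 1 := by rw [h.tt]; group
    have hb1 : b = 1 := by rw [← e2, ← e1, e3]
    have hwA : w * t * w⁻¹ * t⁻¹ ∈ A := by
      rw [e, hb1, hf.one, mul_one]; exact ha
    obtain ⟨a', ha', b', hb', e4 | e4⟩ := hf.X₀ h hwF hwA
    · exact hwN ⟨hwF, a', ha', b', hb', e4⟩
    · apply hno b' hb'
      have : t * f b' = a'⁻¹ * w := by
        rw [e4]
        calc t * f b' = a'⁻¹ * (a' * t) * f b' := by group
          _ = a'⁻¹ * (t * a') * f b' := by rw [h.tA ha']
          _ = _ := by group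
      rw [this]
      exact F₀.mul_mem (F₀.inv_mem (hf.A_le_F h ha')) hwF
  refine le_antisymm hle ?_
  intro x hx
  exact h.Fcen x (hf.J₁_le_H h hx) (fun y hy => hf.J₁_comm h hx (hle hy))

/-- the set of `b ∈ A` with `f(b) ∈ F₀` -/
def I₀ (hf : Fn t z K f) (h : Hyp t z K A F₀) : Subgroup G where
  carrier := {b | b ∈ A ∧ f b ∈ F₀}
  mul_mem' := by
    rintro a b ⟨ha, ha'⟩ ⟨hb, hb'⟩
    refine ⟨A.mul_mem ha hb, ?_⟩
    rw [hf.mul h ha hb]
    exact F₀.mul_mem ha' hb'
  one_mem' := ⟨A.one_mem, by rw [hf.one]; exact F₀.one_mem⟩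
  inv_mem' := by
    rintro a ⟨ha, ha'⟩
    exact ⟨A.inv_mem ha, by rw [h.toKFacts.inv ha]; exact ha'⟩

/-- the set of `b ∈ A` with `f(b) ∈ ⟨t⟩F₀` -/
def I₁ [Finite G] (hf : Fn t z K f) (h : Hyp t z K A F₀) : Subgroup G where
  carrier := {b | b ∈ A ∧ (f b ∈ F₀ ∨ t * f b ∈ F₀)}
  mul_mem' := by
    rintro a b ⟨ha, ha'⟩ ⟨hb, hb'⟩
    refine ⟨A.mul_mem ha hb, ?_⟩
    rw [hf.mul h ha hb]
    have haF := hf.A_le_F h ha
    rcases ha' with ha' | ha' <;> rcases hb' with hb' | hb'
    · left; exact F₀.mul_mem ha' hb'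
    · right
      have : t * (f a * f b) = f a * a * (t * f b) := by
        rw [← mul_assoc, hf.t_mul' h ha]; group
      rw [this]
      exact F₀.mul_mem (F₀.mul_mem ha' haF) hb'
    · right
      rw [← mul_assoc]
      exact F₀.mul_mem ha' hb'
    · left
      have : f a * f b = (t * f a) * (t * f b) * a⁻¹ := by
        calc f a * f b = f a * (a * f b) * a⁻¹ := by rw [hf.Acomm h ha hb]; group
          _ = (f a * a) * f b * a⁻¹ := by group
          _ = (t * f a * t) * f b * a⁻¹ := by rw [hf.t_conj h ha]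
          _ = _ := by group
      rw [this]
      exact F₀.mul_mem (F₀.mul_mem ha' hb') (F₀.inv_mem haF)
  one_mem' := ⟨A.one_mem, by left; rw [hf.one]; exact F₀.one_mem⟩
  inv_mem' := by
    rintro a ⟨ha, ha'⟩
    exact ⟨A.inv_mem ha, by rw [h.toKFacts.inv ha]; exact ha'⟩

theorem norI₀ [Finite G] (hf : Fn t z K f) (h : Hyp t z K A F₀) :
    PP K z ≤ normalizer (hf.I₀ h : Set G) := by
  intro p hp
  apply mem_normalizer_of_le
  rintro b ⟨hb, hb'⟩
  refine ⟨(mem_normalizer_iff.1 (h.norA hp) b).1 hb, ?_⟩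
  rw [hf.conj p hp.1]
  exact (mem_normalizer_iff.1 (h.FN (h.P_le_H hp)) _).1 hb'

theorem norI₁ [Finite G] (hf : Fn t z K f) (h : Hyp t z K A F₀) :
    PP K z ≤ normalizer (hf.I₁ h : Set G) := by
  intro p hp
  apply mem_normalizer_of_le
  rintro b ⟨hb, hb'⟩
  refine ⟨(mem_normalizer_iff.1 (h.norA hp) b).1 hb, ?_⟩
  rw [hf.conj p hp.1]
  rcases hb' with hb' | hb'
  · left; exact (mem_normalizer_iff.1 (h.FN (h.P_le_H hp)) _).1 hb'
  · right
    have : t * (p * f b * p⁻¹) = p * (t * f b) * p⁻¹ := by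
      calc t * (p * f b * p⁻¹) = (t * p) * f b * p⁻¹ := by group
        _ = (p * t) * f b * p⁻¹ := by rw [h.Pt hp]
        _ = _ := by group
    rw [this]
    exact (mem_normalizer_iff.1 (h.FN (h.P_le_H hp)) _).1 hb'

theorem not_both [Finite G] (hf : Fn t z K f) (h : Hyp t z K A F₀) {b : G}
    (h1 : f b ∈ F₀) (h2 : t * f b ∈ F₀) : False := by
  apply hf.t_not_mem h
  have : t = t * f b * (f b)⁻¹ := by group
  rw [this]
  exact F₀.mul_mem h2 (F₀.inv_mem h1)

/-- the remaining case -/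
theorem special [Finite G] (hf : Fn t z K f) (h : Hyp t z K A F₀) {b₀ : G} (hb₀ : b₀ ∈ A)
    (hb₀F : t * f b₀ ∈ F₀) :
    t * f z ∈ F₀ ∧ ∀ b ∈ A, (f b ∈ F₀ ∨ t * f b ∈ F₀) → b = 1 ∨ b = z := by
  have hK := h.toKFacts
  have hsmall : ∀ b ∈ hf.I₁ h, b = 1 ∨ b = z := by
    rcases h.sub (hf.I₁ h) (fun b hb => hb.1) (hf.norI₁ h) with h1 | h1
    · exact h1
    · exfalso
      rcases h.sub (hf.I₀ h) (fun b hb => hb.1) (hf.norI₀ h) with h2 | h2
      · obtain ⟨k, v₁, v₂, b, w₁, w₂, c, h', hc⟩ := h.cfg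
        -- the product of two elements outside `I₀` is in `I₀`
        have hprod : ∀ x ∈ A, ∀ y ∈ A, ¬ (x = 1 ∨ x = z) → ¬ (y = 1 ∨ y = z) →
            (x * y = 1 ∨ x * y = z) := by
          intro x hx y hy hx1 hy1
          apply h2
          refine ⟨A.mul_mem hx hy, ?_⟩
          have hx' : t * f x ∈ F₀ := by
            rcases (h1 hx).2 with e | e
            · exact absurd (h2 x ⟨hx, e⟩) hx1
            · exact e
          have hy' : t * f y ∈ F₀ := by
            rcases (h1 hy).2 with e | e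
            · exact absurd (h2 y ⟨hy, e⟩) hy1
            · exact e
          rw [hf.mul h hx hy]
          have : f x * f y = (t * f x) * (t * f y) * x⁻¹ := by
            calc f x * f y = f x * (x * f y) * x⁻¹ := by rw [hf.Acomm h hx hy]; group
              _ = (f x * x) * f y * x⁻¹ := by group
              _ = (t * f x * t) * f y * x⁻¹ := by rw [hf.t_conj h hx]
              _ = _ := by group
          rw [this]
          exact F₀.mul_mem (F₀.mul_mem hx' hy') (F₀.inv_mem (hf.A_le_F h hx))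
        have hkill : ∀ w ∈ A, w * v₁ = v₁ * w → ¬ (w = 1 ∨ w = z) → False := by
          intro w hw hwv hw1
          have hbw := hprod b hc.bA w hw hc.b_ne hw1
          apply hc.bv_ne
          have hb' : b = (b * w) * w := by rw [mul_assoc, h.sq w hw, mul_one]
          have hbwv : (b * w) * v₁ = v₁ * (b * w) := by
            rcases hbw with e | e
            · rw [e]; group
            · rw [e]; exact hc.v₁z.symm
          rw [hb']
          calc b * w * w * v₁ = b * w * (w * v₁) := by group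
            _ = b * w * (v₁ * w) := by rw [hwv]
            _ = (b * w * v₁) * w := by group
            _ = v₁ * (b * w) * w := by rw [hbwv]
            _ = _ := by group
        have k1 := hkill w₁ hc.w₁A (hc.w₁v₁ hK)
        have k2 := hkill w₂ hc.w₂A hc.w₂v₁
        have z1 := (not_not.1 k1).resolve_left hc.w₁1
        have z2 := (not_not.1 k2).resolve_left hc.w₂1
        exact hc.ne (z1.trans z2.symm)
      · exact hf.not_both h (h2 hb₀).2 hb₀F
  refine ⟨?_, fun b hb hb' => hsmall b ⟨hb, hb'⟩⟩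
  rcases hsmall b₀ ⟨hb₀, Or.inr hb₀F⟩ with e | e
  · rw [e, hf.one, mul_one] at hb₀F
    exact absurd hb₀F (hf.t_not_mem h)
  · rwa [e] at hb₀F

/-- the group `f(A)` -/
def A₁ (hf : Fn t z K f) (h : Hyp t z K A F₀) : Subgroup G where
  carrier := {x | ∃ b ∈ A, x = f b}
  mul_mem' := by
    rintro _ _ ⟨a, ha, rfl⟩ ⟨b, hb, rfl⟩
    exact ⟨a * b, A.mul_mem ha hb, (hf.mul h ha hb).symm⟩
  one_mem' := ⟨1, A.one_mem, hf.one.symm⟩
  inv_mem' := by
    rintro _ ⟨a, ha, rfl⟩
    exact ⟨a, ha, hf.inv a⟩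

theorem A₁_le_comm (hf : Fn t z K f) (h : Hyp t z K A F₀) : hf.A₁ h ≤ ⁅hf.A₁ h, PP K z⁆ := by
  let D : Subgroup G :=
    { carrier := {b | b ∈ A ∧ f b ∈ ⁅hf.A₁ h, PP K z⁆}
      mul_mem' := by
        rintro a b ⟨ha, ha'⟩ ⟨hb, hb'⟩
        refine ⟨A.mul_mem ha hb, ?_⟩
        rw [hf.mul h ha hb]
        exact mul_mem ha' hb'
      one_mem' := ⟨A.one_mem, by rw [hf.one]; exact one_mem _⟩
      inv_mem' := by
        rintro a ⟨ha, ha'⟩
        exact ⟨A.inv_mem ha, by rw [h.toKFacts.inv ha]; exact ha'⟩ }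
  have h1 : ⁅A, PP K z⁆ ≤ D := by
    rw [commutator_le]
    intro a ha p hp
    have hpa : p * a⁻¹ * p⁻¹ ∈ A := (mem_normalizer_iff.1 (h.norA hp) _).1 (A.inv_mem ha)
    have e : ⁅a, p⁆ = a * (p * a⁻¹ * p⁻¹) := by rw [commutatorElement_def]; group
    refine ⟨by rw [e]; exact A.mul_mem ha hpa, ?_⟩
    have e2 : f ⁅a, p⁆ = ⁅f a, p⁆ := by
      rw [e, hf.mul h ha hpa, hf.conj p hp.1, h.toKFacts.inv ha, commutatorElement_def]
      rw [hf.inv]; group
    show f ⁅a, p⁆ ∈ _
    rw [e2]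
    exact commutator_mem_commutator ⟨a, ha, rfl⟩ hp
  rintro _ ⟨b, hb, rfl⟩
  exact (h1 (h.toKFacts.A_le_comm hb)).2

theorem special_false [Finite G] (hf : Fn t z K f) (h : Hyp t z K A F₀)
    (hz : t * f z ∈ F₀) (hI : ∀ b ∈ A, (f b ∈ F₀ ∨ t * f b ∈ F₀) → b = 1 ∨ b = z) : False := by
  have hK := h.toKFacts
  have hAF := hf.A_le_F h
  have hzF : f z ∉ F₀ := fun h1 => hf.not_both h h1 hz
  -- elements of `F₀` with `[x, t] ∈ A`
  have hX : ∀ x ∈ F₀, x * t * x⁻¹ * t⁻¹ ∈ A → x ∈ A ∨ ∃ a ∈ A, x = t * (a * f z) := by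
    intro x hx hxt
    obtain ⟨a, ha, b, hb, e | e⟩ := hf.X₀ h hx hxt
    · have hfb : f b ∈ F₀ := by
        have : f b = a⁻¹ * x := by rw [e]; group
        rw [this]; exact F₀.mul_mem (F₀.inv_mem (hAF ha)) hx
      rcases hI b hb (Or.inl hfb) with e1 | e1
      · left; rw [e, e1, hf.one, mul_one]; exact ha
      · rw [e1] at hfb; exact absurd hfb hzF
    · have hfb : t * f b ∈ F₀ := by
        have : t * f b = a⁻¹ * x := by
          rw [e]
          calc t * f b = a⁻¹ * (a * t) * f b := by group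
            _ = a⁻¹ * (t * a) * f b := by rw [h.tA ha]
            _ = _ := by group
        rw [this]; exact F₀.mul_mem (F₀.inv_mem (hAF ha)) hx
      rcases hI b hb (Or.inr hfb) with e1 | e1
      · rw [e1, hf.one, mul_one] at hfb; exact absurd hfb (hf.t_not_mem h)
      · right; exact ⟨a, ha, by rw [e, e1]⟩
  have htA : t ∈ normalizer (A : Set G) := mem_normalizer_of_comm (fun a ha => (h.tA ha).symm)
  set W : Subgroup G := F₀ ⊓ normalizer (A : Set G) with hW
  have hWF : W ≤ F₀ := inf_le_left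
  have hWA : W ≤ normalizer (A : Set G) := inf_le_right
  have hAW : A ≤ W := le_inf hAF le_normalizer
  have hW2 : IsPGroup 2 W := h.F2.to_le hWF
  have hPW : PP K z ≤ normalizer (W : Set G) := fun p hp =>
    mem_normalizer_inf (h.FN (h.P_le_H hp)) (le_normalizer (h.norA hp))
  have htW : t ∈ normalizer (W : Set G) := mem_normalizer_inf (h.FN h.tH) (le_normalizer htA)
  have hPWA : ⁅PP K z, W⁆ ≤ A := by
    refine commutator_le_of_fix A (PP K z) h.tt h.perf (fun p hp => h.Pt hp) h.norA htA _ W le_rfl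
      hW2 hAW hWA hPW htW ?_
    intro x hx hxt p hp
    have hpA := mem_normalizer_iff.1 (h.norA hp)
    rcases hX x (hWF hx) hxt with h1 | ⟨a, ha, h1⟩
    · exact A.mul_mem ((hpA x).1 h1) (A.inv_mem h1)
    · have e : p * x * p⁻¹ * x⁻¹ = (p * a * p⁻¹) * a⁻¹ := by
        have hpz : p * f z = f z * p := hf.comm hp.1 (mem_cz.1 hp.2)
        have hpa : p * a * p⁻¹ ∈ A := (hpA a).1 ha
        rw [h1]
        calc p * (t * (a * f z)) * p⁻¹ * (t * (a * f z))⁻¹
            = (p * t) * a * f z * p⁻¹ * (f z)⁻¹ * a⁻¹ * t⁻¹ := by group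
          _ = t * (p * a) * (f z * p⁻¹) * (f z)⁻¹ * a⁻¹ * t⁻¹ := by rw [h.Pt hp]; group
          _ = t * (p * a) * (p⁻¹ * f z) * (f z)⁻¹ * a⁻¹ * t⁻¹ := by
              have : f z * p⁻¹ = p⁻¹ * f z := by
                calc f z * p⁻¹ = p⁻¹ * (p * f z) * p⁻¹ := by group
                  _ = p⁻¹ * (f z * p) * p⁻¹ := by rw [hpz]
                  _ = _ := by group
              rw [this]
          _ = t * ((p * a * p⁻¹) * a⁻¹) * t⁻¹ := by group
          _ = _ := by
              rw [h.tA (A.mul_mem hpa (A.inv_mem ha))]; group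
      rw [e]
      exact A.mul_mem ((hpA a).1 ha) (A.inv_mem ha)
  -- `W` centralises `A`
  have hcenW : ⁅A, W⁆ ≤ ⊥ := by
    have hUA : ⁅W, A⁆ ≤ A := le_normalizer_iff_commutator_le_right.1 hWA
    have hU : ∀ b ∈ ⁅W, A⁆, b = 1 ∨ b = z := by
      rcases h.sub _ hUA (fun p hp => mem_normalizer_commutator (hPW hp) (h.norA hp)) with h1 | h1
      · exact h1
      · exfalso
        have h2 : A ≤ ⊥ := by
          refine le_of_le_commutator_sup W A ⊥ hW2.isNilpotent hAW bot_le
            (fun x _ => normal_bot_mem x) ?_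
          rw [sup_bot_eq, commutator_comm]
          exact h1
        exact h.z1 (mem_bot.1 (h2 h.zA))
    have h2 : ⁅⁅W, A⁆, PP K z⁆ ≤ ⊥ := by
      rw [commutator_le]
      intro x hx p hp
      rw [mem_bot, commutatorElement_eq_one_iff_mul_comm]
      rcases hU x hx with rfl | rfl
      · group
      · exact (mem_cz.1 hp.2).symm
    have h3 : ⁅A, A⁆ ≤ ⊥ := by
      rw [commutator_le]
      intro x hx y hy
      rw [mem_bot, commutatorElement_eq_one_iff_mul_comm]
      exact hK.comm hx hy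
    have h4 : ⁅⁅A, PP K z⁆, W⁆ ≤ ⊥ :=
      SignalizersComponents.PerfectGoingUp.three_subgroups_mod (fun x _ => normal_bot_mem x)
        (fun x _ => normal_bot_mem x) (fun x _ => normal_bot_mem x)
        ((commutator_mono hPWA le_rfl).trans h3) h2
    exact (commutator_mono hK.A_le_comm le_rfl).trans h4
  have hcW : ∀ a ∈ A, ∀ w ∈ W, a * w = w * a := by
    intro a ha w hw
    have := hcenW (commutator_mem_commutator ha hw)
    rwa [mem_bot, commutatorElement_eq_one_iff_mul_comm] at this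
  -- `Ω₁(Z(W)) = A`
  have hZ : ∀ x ∈ W, x * x = 1 → (∀ w ∈ W, x * w = w * x) → x ∈ A := by
    intro x hx hxx hxc
    have hx' : t * x * t⁻¹ ∈ W := (mem_normalizer_iff.1 htW x).1 hx
    have hxi : x⁻¹ = x := inv_eq_of_mul_eq_one_left hxx
    have hc1 := hxc _ hx'
    set c := x * t * x⁻¹ * t⁻¹ with hc
    have hcx : c = x * (t * x * t⁻¹) := by rw [hc, hxi]; group
    have hcF : c ∈ F₀ := by rw [hcx]; exact F₀.mul_mem (hWF hx) (hWF hx')
    have hct : c * t = t * c := by
      have ti := h.t_inv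
      have e1 : t * c * t⁻¹ = c := by
        calc t * c * t⁻¹ = (t * x * t⁻¹) * ((t * t) * x⁻¹ * (t⁻¹ * t⁻¹)) := by rw [hc]; group
          _ = (t * x * t⁻¹) * x := by rw [ti, h.tt, hxi]; group
          _ = c := by rw [← hc1, hcx]
      calc c * t = (t * c * t⁻¹) * t := by rw [e1]
        _ = t * c := by group
    have hcA : c ∈ A := hf.cen_t h hcF hct
    rcases hX x (hWF hx) hcA with h1 | ⟨a, ha, h1⟩
    · exact h1
    · exfalso
      apply h.z1
      have e : x * x = z := by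
        rw [h1]
        calc t * (a * f z) * (t * (a * f z)) = (t * a) * f z * t * (a * f z) := by group
          _ = a * (t * f z * t) * (a * f z) := by rw [h.tA ha]; group
          _ = a * (f z * z) * (a * f z) := by rw [hf.t_conj h h.zA]
          _ = a * f z * ((z * a) * f z) := by group
          _ = a * f z * (a * (z * f z)) := by rw [hK.comm h.zA ha]; group
          _ = a * (f z * a) * (f z * z) := by rw [hf.Acomm h h.zA h.zA]; group
          _ = a * (a * f z) * (f z * z) := by rw [hf.Acomm h ha h.zA]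
          _ = (a * a) * (f z * f z) * z := by group
          _ = z := by rw [h.sq a ha, hf.sq, one_mul, one_mul]
      rw [← e, hxx]
  -- `F₀ = W`
  have hFW : F₀ ≤ W := by
    by_contra hcon
    obtain ⟨w, hwF, hwW, hwN, -⟩ := exists_grow F₀ W h.tt h.F2 (h.FN h.tH) htW hWF hcon
    apply hwW
    refine ⟨hwF, ?_⟩
    show w ∈ normalizer (A : Set G)
    apply mem_normalizer_of_le
    intro a ha
    have hwN' := mem_normalizer_iff.1 hwN
    apply hZ
    · exact (hwN' a).1 (hAW ha)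
    · calc w * a * w⁻¹ * (w * a * w⁻¹) = w * (a * a) * w⁻¹ := by group
        _ = 1 := by rw [h.sq a ha]; group
    · intro u hu
      have hu' : w⁻¹ * u * w ∈ W := by
        rw [hwN']
        have : w * (w⁻¹ * u * w) * w⁻¹ = u := by group
        rw [this]; exact hu
      have e := hcW a ha _ hu'
      calc w * a * w⁻¹ * u = w * (a * (w⁻¹ * u * w)) * w⁻¹ := by group
        _ = w * (w⁻¹ * u * w * a) * w⁻¹ := by rw [e]
        _ = _ := by group
  -- `A` is normal in `H`
  have hHA : centralizer ({z} : Set G) ≤ normalizer (A : Set G) := by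
    intro g hg
    have hgF := mem_normalizer_iff.1 (h.FN hg)
    apply mem_normalizer_of_le
    intro a ha
    apply hZ
    · exact hFW ((hgF a).1 (hAF ha))
    · calc g * a * g⁻¹ * (g * a * g⁻¹) = g * (a * a) * g⁻¹ := by group
        _ = 1 := by rw [h.sq a ha]; group
    · intro u hu
      have hu' : g⁻¹ * u * g ∈ W := by
        apply hFW
        rw [hgF]
        have : g * (g⁻¹ * u * g) * g⁻¹ = u := by group
        rw [this]; exact hWF hu
      have e := hcW a ha _ hu'
      calc g * a * g⁻¹ * u = g * (a * (g⁻¹ * u * g)) * g⁻¹ := by group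
        _ = g * (g⁻¹ * u * g * a) * g⁻¹ := by rw [e]
        _ = _ := by group
  -- `Y₀ = C_H(A) ∩ C_H(F₀/A)`
  set Y : Subgroup G := centralizer ({z} : Set G) ⊓ (centralizer (A : Set G) ⊓
    SignalizersComponents.PerfectGoingUp.commMod A (F₀ : Set G)) with hY
  have hmemY : ∀ y, y ∈ Y ↔ y ∈ centralizer ({z} : Set G) ∧ (∀ a ∈ A, y * a = a * y) ∧
      ∀ x ∈ F₀, y * x * y⁻¹ * x⁻¹ ∈ A := by
    intro y
    constructor
    · rintro ⟨h1, h2, h3, h4⟩
      exact ⟨h1, fun a ha => (mem_centralizer_iff.1 h2 a ha).symm, fun x hx => h4 x hx⟩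
    · rintro ⟨h1, h2, h3⟩
      refine ⟨h1, mem_centralizer_iff.2 (fun a ha => (h2 a ha).symm), hHA h1, fun x hx => h3 x hx⟩
  have hYF : Y ≤ F₀ := by
    refine h.Fmax Y inf_le_left ?_ ?_
    · apply isPGroup_of_sq h.F2
      intro y hy
      obtain ⟨h1, h2, h3⟩ := (hmemY y).1 hy
      exact h.Fcen _ (mul_mem h1 h1) (sq_comm_of_two_step h.sq h2 h3)
    · intro g hg
      have hgF := mem_normalizer_iff.1 (h.FN hg)
      have hgA := mem_normalizer_iff.1 (hHA hg)
      apply mem_normalizer_of_le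
      intro y hy
      obtain ⟨h1, h2, h3⟩ := (hmemY y).1 hy
      rw [hmemY]
      refine ⟨mul_mem (mul_mem hg h1) (inv_mem hg), ?_, ?_⟩
      · intro a ha
        have ha' : g⁻¹ * a * g ∈ A := by
          rw [hgA]
          have : g * (g⁻¹ * a * g) * g⁻¹ = a := by group
          rw [this]; exact ha
        have e := h2 _ ha'
        calc g * y * g⁻¹ * a = g * (y * (g⁻¹ * a * g)) * g⁻¹ := by group
          _ = g * (g⁻¹ * a * g * y) * g⁻¹ := by rw [e]
          _ = _ := by group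
      · intro x hx
        have hx' : g⁻¹ * x * g ∈ F₀ := by
          rw [hgF]
          have : g * (g⁻¹ * x * g) * g⁻¹ = x := by group
          rw [this]; exact hx
        have e : g * y * g⁻¹ * x * (g * y * g⁻¹)⁻¹ * x⁻¹ =
            g * (y * (g⁻¹ * x * g) * y⁻¹ * (g⁻¹ * x * g)⁻¹) * g⁻¹ := by group
        rw [e]
        exact (hgA _).1 (h3 _ hx')
  -- `f(A) ≤ Y₀`
  have hA₁ : ⁅hf.A₁ h, F₀⁆ ≤ A := by
    have n1 : hf.A₁ h ≤ normalizer (A : Set G) := by
      rintro _ ⟨b, hb, rfl⟩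
      exact mem_normalizer_of_comm (fun a ha => hf.Acomm h ha hb)
    have n2 : F₀ ≤ normalizer (A : Set G) := hFW.trans hWA
    have n3 : hf.A₁ h ≤ normalizer (F₀ : Set G) := by
      rintro _ ⟨b, hb, rfl⟩
      exact h.FN (hf.fH h hb)
    have k1 : ⁅⁅PP K z, F₀⁆, hf.A₁ h⁆ ≤ A := by
      have : ⁅PP K z, F₀⁆ ≤ A := (commutator_mono le_rfl hFW).trans hPWA
      refine (commutator_mono this le_rfl).trans ?_
      rw [commutator_le]
      rintro a ha _ ⟨b, hb, rfl⟩
      have : ⁅a, f b⁆ = 1 := by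
        rw [commutatorElement_eq_one_iff_mul_comm]; exact hf.Acomm h ha hb
      rw [this]; exact A.one_mem
    have k2 : ⁅⁅F₀, hf.A₁ h⁆, PP K z⁆ ≤ A := by
      have : ⁅F₀, hf.A₁ h⁆ ≤ F₀ := le_normalizer_iff_commutator_le_left.1 n3
      refine (commutator_mono (this.trans hFW) le_rfl).trans ?_
      rw [commutator_comm]; exact hPWA
    have k3 := SignalizersComponents.PerfectGoingUp.three_subgroups_mod n1 h.norA n2 k1 k2
    exact (commutator_mono (hf.A₁_le_comm h) le_rfl).trans k3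
  obtain ⟨k, v₁, v₂, b, w₁, w₂, c, h', hc⟩ := h.cfg
  have hfb : f b ∈ F₀ := by
    apply hYF
    rw [hmemY]
    refine ⟨hf.fH h hc.bA, fun a ha => (hf.Acomm h ha hc.bA).symm, fun x hx => ?_⟩
    have := hA₁ (commutator_mem_commutator ⟨b, hc.bA, rfl⟩ hx)
    rwa [commutatorElement_def] at this
  exact hc.b_ne (hI b hc.bA (Or.inl hfb))

/-- **Result of this part**: `O_2(C_G(z)) = J₁`. -/
theorem F_eq [Finite G] (hf : Fn t z K f) (h : Hyp t z K A F₀) : F₀ = hf.J₁ h := by
  apply hf.F_eq_of_not h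
  intro b hb hbF
  obtain ⟨h1, h2⟩ := hf.special h hb hbF
  exact hf.special_false h h1 h2

end Fn

end Cfsg.Agent.OddHalf.M23
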