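import Cfsg.Agent.OddHalf.M23.Orb

/-!
# ODD half, D8, `K = M23`, `F*(C_G(z))` a 2-group: the contradiction (helper136)

`Hyp.false`: the hypotheses `Hyp t z K A F₀` are contradictory. `J₁` is a TI-subgroup; the action of
`N_{J₁^k}(J₁)` on `J₁` leads to the contradiction.
-/

set_option autoImplicit false

open scoped commutatorElement

namespace Cfsg.Agent.OddHalf.M23

open Subgroup

variable {G : Type*} [Group G]

namespace Fn

variable {t z : G} {K A F₀ : Subgroup G} {f : G → G}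

/-- fusion in `J₁` is controlled by its normalizer -/
theorem ti [Finite G] (hf : Fn t z K f) (h : Hyp t z K A F₀) {g x : G} (hx : x ∈ hf.J₁ h)
    (hx1 : x ≠ 1) (hg : g * x * g⁻¹ ∈ hf.J₁ h) : g ∈ normalizer (hf.J₁ h : Set G) := by
  obtain ⟨m, hm, e⟩ := hf.trans h x hx hx1
  have hne : g * x * g⁻¹ ≠ 1 := by
    intro e
    apply hx1
    calc x = g⁻¹ * (g * x * g⁻¹) * g := by group
      _ = 1 := by rw [e]; group
  obtain ⟨m', hm', e'⟩ := hf.trans h _ hg hne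
  have h1 : m'⁻¹ * g * m ∈ centralizer ({z} : Set G) := by
    rw [mem_cz]
    calc m'⁻¹ * g * m * z = m'⁻¹ * (g * (m * z * m⁻¹) * g⁻¹) * g * m := by group
      _ = m'⁻¹ * (g * x * g⁻¹) * g * m := by rw [e]
      _ = m'⁻¹ * (m' * z * m'⁻¹) * g * m := by rw [e']
      _ = _ := by group
  have h2 := hf.H_le_M h h1
  have e3 : g = m' * (m'⁻¹ * g * m) * m⁻¹ := by group
  rw [e3]
  exact mul_mem (mul_mem hm' h2) (inv_mem hm)

/-- the action of `U = J₁^k ∩ N(J₁)` on `J₁` -/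
structure UU (hf : Fn t z K f) (h : Hyp t z K A F₀) (k u : G) : Prop where
  j : k⁻¹ * u * k ∈ hf.J₁ h
  n : u ∈ normalizer (hf.J₁ h : Set G)

/-- `C = J₁ ∩ N(J₁^k)` -/
structure CC (hf : Fn t z K f) (h : Hyp t z K A F₀) (k x : G) : Prop where
  j : x ∈ hf.J₁ h
  n : k⁻¹ * x * k ∈ normalizer (hf.J₁ h : Set G)

theorem UU.mul {hf : Fn t z K f} {h : Hyp t z K A F₀} {k u v : G} (hu : UU hf h k u)
    (hv : UU hf h k v) : UU hf h k (u * v) := by
  refine ⟨?_, mul_mem hu.n hv.n⟩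
  have e : k⁻¹ * (u * v) * k = (k⁻¹ * u * k) * (k⁻¹ * v * k) := by group
  rw [e]; exact mul_mem hu.j hv.j

theorem UU.sq {hf : Fn t z K f} {h : Hyp t z K A F₀} {k u : G} (hu : UU hf h k u) : u * u = 1 := by
  have := hf.J₁_sq h hu.j
  calc u * u = k * (k⁻¹ * u * k * (k⁻¹ * u * k)) * k⁻¹ := by group
    _ = 1 := by rw [this]; group

theorem CC.mul {hf : Fn t z K f} {h : Hyp t z K A F₀} {k u v : G} (hu : CC hf h k u)
    (hv : CC hf h k v) : CC hf h k (u * v) := by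
  refine ⟨mul_mem hu.j hv.j, ?_⟩
  have e : k⁻¹ * (u * v) * k = (k⁻¹ * u * k) * (k⁻¹ * v * k) := by group
  rw [e]; exact mul_mem hu.n hv.n

/-- the commutator `[j, u]` -/
abbrev dd (j u : G) : G := j * u * j⁻¹ * u⁻¹

variable {k : G}

/-- the two TI-groups intersect trivially -/
theorem inter [Finite G] (hf : Fn t z K f) (h : Hyp t z K A F₀)
    (hk : k ∉ normalizer (hf.J₁ h : Set G)) {x : G} (hx : x ∈ hf.J₁ h)
    (hx' : k⁻¹ * x * k ∈ hf.J₁ h) : x = 1 := by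
  by_contra hx1
  apply hk
  have h1 := hf.ti h (g := k⁻¹) hx hx1 (by rw [inv_inv]; exact hx')
  simpa using inv_mem h1

theorem comm_UC [Finite G] (hf : Fn t z K f) (h : Hyp t z K A F₀)
    (hk : k ∉ normalizer (hf.J₁ h : Set G)) {j u : G} (hj : CC hf h k j) (hu : UU hf h k u) :
    j * u = u * j := by
  have h1 : dd j u = 1 := by
    apply hf.inter h hk
    · have e : dd j u = j * (u * j⁻¹ * u⁻¹) := by simp only [dd]; group
      rw [e]
      exact mul_mem hj.j ((mem_normalizer_iff.1 hu.n _).1 (inv_mem hj.j))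
    · have e : k⁻¹ * dd j u * k = ((k⁻¹ * j * k) * (k⁻¹ * u * k) * (k⁻¹ * j * k)⁻¹) *
          (k⁻¹ * u * k)⁻¹ := by simp only [dd]; group
      rw [e]
      exact mul_mem ((mem_normalizer_iff.1 hj.n _).1 hu.j) (inv_mem hu.j)
  calc j * u = dd j u * (u * j) := by simp only [dd]; group
    _ = u * j := by rw [h1, one_mul]

theorem CC_of_comm [Finite G] (hf : Fn t z K f) (h : Hyp t z K A F₀) {j u : G}
    (hj : j ∈ hf.J₁ h) (hu : UU hf h k u) (hu1 : u ≠ 1) (e : j * u = u * j) : CC hf h k j := by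
  refine ⟨hj, ?_⟩
  have hu1' : k⁻¹ * u * k ≠ 1 := by
    intro e
    apply hu1
    calc u = k * (k⁻¹ * u * k) * k⁻¹ := by group
      _ = 1 := by rw [e]; group
  apply hf.ti h hu.j hu1'
  have e2 : k⁻¹ * j * k * (k⁻¹ * u * k) * (k⁻¹ * j * k)⁻¹ = k⁻¹ * u * k := by
    calc k⁻¹ * j * k * (k⁻¹ * u * k) * (k⁻¹ * j * k)⁻¹ = k⁻¹ * (j * u) * j⁻¹ * k := by group
      _ = k⁻¹ * (u * j) * j⁻¹ * k := by rw [e]
      _ = _ := by group
  rw [e2]; exact hu.j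

theorem dd_J [Finite G] (hf : Fn t z K f) (h : Hyp t z K A F₀) {j u : G} (hj : j ∈ hf.J₁ h)
    (hu : UU hf h k u) : dd j u ∈ hf.J₁ h := by
  have e : dd j u = j * (u * j⁻¹ * u⁻¹) := by simp only [dd]; group
  rw [e]
  exact mul_mem hj ((mem_normalizer_iff.1 hu.n _).1 (inv_mem hj))

theorem dd_C [Finite G] (hf : Fn t z K f) (h : Hyp t z K A F₀)
    (_hk : k ∉ normalizer (hf.J₁ h : Set G)) {j u : G} (hj : j ∈ hf.J₁ h) (hu : UU hf h k u) :
    CC hf h k (dd j u) := by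
  by_cases hu1 : u = 1
  · have e : dd j u = 1 := by simp only [dd]; rw [hu1]; group
    rw [e]
    exact ⟨one_mem _, by
      have : k⁻¹ * 1 * k = (1 : G) := by group
      rw [this]; exact one_mem _⟩
  · apply hf.CC_of_comm h (hf.dd_J h hj hu) hu hu1
    -- `u [j, u] u⁻¹ = [j, u]⁻¹ = [j, u]`
    have h1 := hf.J₁_sq h (hf.dd_J h hj hu)
    have h2 : (dd j u)⁻¹ = dd j u := inv_eq_of_mul_eq_one_left h1
    have h3 := hu.sq
    have ui : u⁻¹ = u := inv_eq_of_mul_eq_one_left h3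
    have h4 : u * dd j u * u⁻¹ = (dd j u)⁻¹ := by
      simp only [dd]
      calc u * (j * u * j⁻¹ * u⁻¹) * u⁻¹ = u * j * u * j⁻¹ * (u⁻¹ * u⁻¹) := by group
        _ = u * j * u * j⁻¹ := by rw [ui, h3, mul_one]
        _ = u * j * u⁻¹ * j⁻¹ := by rw [ui]
        _ = _ := by group
    rw [h2] at h4
    exact (conj_eq_iff.1 h4).symm

theorem dd_mul_left [Finite G] (hf : Fn t z K f) (h : Hyp t z K A F₀) {j j' u : G}
    (hj : j ∈ hf.J₁ h) (hj' : j' ∈ hf.J₁ h) (hu : UU hf h k u) :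
    dd (j * j') u = dd j u * dd j' u := by
  have h1 := hf.J₁_comm h hj (hf.dd_J h hj' hu)
  calc dd (j * j') u = (j * dd j' u) * (u * j⁻¹ * u⁻¹) := by simp only [dd]; group
    _ = (dd j' u * j) * (u * j⁻¹ * u⁻¹) := by rw [h1]
    _ = dd j' u * dd j u := by simp only [dd]; group
    _ = dd j u * dd j' u := hf.J₁_comm h (hf.dd_J h hj' hu) (hf.dd_J h hj hu)

theorem dd_mul_right [Finite G] (hf : Fn t z K f) (h : Hyp t z K A F₀)
    (hk : k ∉ normalizer (hf.J₁ h : Set G)) {j u u' : G} (hj : j ∈ hf.J₁ h)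
    (hu : UU hf h k u) (hu' : UU hf h k u') : dd j (u * u') = dd j u * dd j u' := by
  have h1 := hf.comm_UC h hk (hf.dd_C h hk hj hu') hu
  calc dd j (u * u') = j * u * j⁻¹ * (dd j u') * u⁻¹ := by simp only [dd]; group
    _ = j * u * j⁻¹ * (u⁻¹ * (u * dd j u')) * u⁻¹ := by group
    _ = j * u * j⁻¹ * (u⁻¹ * (dd j u' * u)) * u⁻¹ := by rw [h1]
    _ = dd j u * dd j u' := by simp only [dd]; group

end Fn

theorem Hyp.false [Finite G] {t z : G} {K A F₀ : Subgroup G} (h : Hyp t z K A F₀) : False := by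
  obtain ⟨f, hf⟩ := h.exists_fn₀
  have hK := h.toKFacts
  obtain ⟨k, v₁, v₂, b, w₁, w₂, c, g, hc⟩ := h.cfg
  have hv₁P := hc.v₁P hK
  have hv₂P := hc.v₂P hK
  have hv₁K := hv₁P.1
  have hv₂K := hv₂P.1
  have hw₁v := hc.w₁v₁ hK
  have hHM := hf.H_le_M h
  -- `v₁ ∉ J₁`
  have hv₁J : v₁ ∉ hf.J₁ h := by
    rintro ⟨a, ha, b', hb', e⟩
    have h1 := hf.comm_t h ha hb'
    rw [← e, h.Kt v₁ hv₁K] at h1
    have h2 : t * v₁ = t * (b' * v₁) := by rw [h1]; group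
    have h3 : v₁ = b' * v₁ := mul_left_cancel h2
    have h4 : b' = 1 := mul_eq_right.1 h3.symm
    rw [h4, hf.one, mul_one] at e
    exact hc.v₁_not hK (by rw [e]; exact ha)
  have hk : k ∉ normalizer (hf.J₁ h : Set G) := by
    intro hkM
    apply hv₁J
    have := (mem_normalizer_iff.1 hkM _).1 (hf.A_le_J₁ h hc.v₁A)
    have e : k * (k⁻¹ * v₁ * k) * k⁻¹ = v₁ := by group
    rwa [e] at this
  -- the elements of `U`
  have U1 : Fn.UU hf h k 1 := ⟨by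
    have : k⁻¹ * 1 * k = (1 : G) := by group
    rw [this]; exact one_mem _, one_mem _⟩
  have Uv₁ : Fn.UU hf h k v₁ := ⟨hf.A_le_J₁ h hc.v₁A, hHM hv₁P.2⟩
  have Uv₂ : Fn.UU hf h k v₂ := ⟨hf.A_le_J₁ h hc.v₂A, hHM hv₂P.2⟩
  have Ufv : Fn.UU hf h k (f v₁) := by
    refine ⟨?_, hHM (mem_cz.2 (hf.comm (h.AK h.zA) hc.v₁z.symm).symm)⟩
    have e := hf.conj k⁻¹ (K.inv_mem hc.kK) v₁
    rw [inv_inv] at e
    rw [← e]
    exact hf.f_mem_J₁ h hc.v₁A
  -- the action of `t`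
  have hv1 : k⁻¹ * v₁ * k ≠ 1 := by
    intro e
    apply hc.v₁1
    calc v₁ = k * (k⁻¹ * v₁ * k) * k⁻¹ := by group
      _ = 1 := by rw [e]; group
  have htv : t * f v₁ * t = f v₁ * v₁ := by
    obtain ⟨n, hn, -, hnz⟩ := hK.exists_conj hc.v₁A hv1
    have ev : v₁ = (k * n) * z * (k * n)⁻¹ := by
      calc v₁ = k * (k⁻¹ * v₁ * k) * k⁻¹ := by group
        _ = k * (n * z * n⁻¹) * k⁻¹ := by rw [hnz]
        _ = _ := by group
    have h1 : f v₁ * t = t * v₁ * f v₁ := by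
      have := hf.tc (k * n) (K.mul_mem hc.kK hn)
      rw [← ev] at this
      exact this
    have h2 : v₁ * f v₁ = f v₁ * v₁ := hf.comm hv₁K rfl
    calc t * f v₁ * t = t * (f v₁ * t) := by group
      _ = t * (t * v₁ * f v₁) := by rw [h1]
      _ = (t * t) * (v₁ * f v₁) := by group
      _ = f v₁ * v₁ := by rw [h.tt, one_mul, h2]
  have hfv₁t : f v₁ * t ≠ t * f v₁ := by
    intro e
    have h1 : t * f v₁ * t = f v₁ := by
      rw [mul_assoc, e, ← mul_assoc, h.tt, one_mul]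
    rw [htv] at h1
    exact hc.v₁1 (mul_eq_left.1 h1)
  -- `v₁` normalises `A`
  have hvA := mem_normalizer_iff.1 (h.norA hv₁P)
  -- the form of `C`
  have hCform : ∀ j, Fn.CC hf h k j → ∀ a ∈ A, ∀ b' ∈ A, j = a * f b' →
      (a * v₁ = v₁ * a) ∧ (b' * v₁ = v₁ * b') := by
    intro j hj a ha b' hb' e
    have h1 := hf.comm_UC h hk hj Uv₁
    have h2 : v₁ * j * v₁⁻¹ = j := by rw [← h1]; group
    have h3 : v₁ * j * v₁⁻¹ = (v₁ * a * v₁⁻¹) * f (v₁ * b' * v₁⁻¹) := by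
      rw [e, hf.conj v₁ hv₁K]; group
    rw [h3, e] at h2
    obtain ⟨k1, k2⟩ := hf.rep_inj h ((hvA a).1 ha) ((hvA b').1 hb') ha hb' h2
    exact ⟨(conj_eq_iff.1 k1).symm, (conj_eq_iff.1 k2).symm⟩
  have bJ := hf.A_le_J₁ h hc.bA
  have fbJ := hf.f_mem_J₁ h hc.bA
  -- `[f(b), v] = f([b, v])` for `v ∈ P`
  have hfd : ∀ v ∈ PP K z, Fn.dd (f b) v = f (Fn.dd b v) := by
    intro v hv
    have hvb : v * b * v⁻¹ ∈ A := (mem_normalizer_iff.1 (h.norA hv) b).1 hc.bA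
    have e1 : Fn.dd b v = b * (v * b * v⁻¹) := by
      simp only [Fn.dd]; rw [hK.inv hc.bA]; group
    rw [e1, hf.mul h hc.bA hvb, hf.conj v hv.1]
    simp only [Fn.dd]
    rw [hf.inv]; group
  have dbv₁ : Fn.dd b v₁ = w₁ := hc.bv₁
  have dbv₂ : Fn.dd b v₂ = w₂ := hc.bv₂
  have Cw₁ : Fn.CC hf h k w₁ := by rw [← dbv₁]; exact hf.dd_C h hk bJ Uv₁
  have Cw₂ : Fn.CC hf h k w₂ := by rw [← dbv₂]; exact hf.dd_C h hk bJ Uv₂
  have Cfw₁ : Fn.CC hf h k (f w₁) := by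
    rw [← dbv₁, ← hfd v₁ hv₁P]; exact hf.dd_C h hk fbJ Uv₁
  have Cfw₂ : Fn.CC hf h k (f w₂) := by
    rw [← dbv₂, ← hfd v₂ hv₂P]; exact hf.dd_C h hk fbJ Uv₂
  -- `X = [f(b), f(v₁)] = p f(q)`
  have CX := hf.dd_C h hk fbJ Ufv
  obtain ⟨p, hpA, q, hqA, hX⟩ := CX.j
  obtain ⟨hpv, hqv⟩ := hCform _ CX p hpA q hqA hX
  have hp4 := hc.cenv p hpA hpv
  have hq4 := hc.cenv q hqA hqv
  -- for each `s ∈ W₂` an element `u₀` with `[b, u₀] = s`
  have hsurj : ∀ s, (s = 1 ∨ s = w₁ ∨ s = w₂ ∨ s = w₁ * w₂) →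
      ∃ u₀ ∈ PP K z, Fn.UU hf h k u₀ ∧ Fn.dd b u₀ = s ∧ c * u₀ = u₀ * c := by
    rintro s (e | e | e | e)
    · refine ⟨1, one_mem _, U1, ?_, by group⟩
      rw [e]; simp only [Fn.dd]; group
    · exact ⟨v₁, hv₁P, Uv₁, by rw [e]; exact dbv₁, hc.cv₁⟩
    · exact ⟨v₂, hv₂P, Uv₂, by rw [e]; exact dbv₂, hc.cv₂⟩
    · refine ⟨v₁ * v₂, mul_mem hv₁P hv₂P, Uv₁.mul Uv₂, ?_, ?_⟩
      · rw [hf.dd_mul_right h hk bJ Uv₁ Uv₂, dbv₁, dbv₂, e]
      · rw [← mul_assoc, hc.cv₁, mul_assoc, hc.cv₂, mul_assoc]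
  -- `u₀ f(v₁) ≠ 1`
  have hne1 : ∀ u₀ ∈ PP K z, u₀ * f v₁ ≠ 1 := by
    intro u₀ hu₀ e
    apply hfv₁t
    have e1 : f v₁ = u₀⁻¹ := eq_inv_of_mul_eq_one_right e
    rw [e1]
    exact h.Kt _ (K.inv_mem hu₀.1)
  have ww : w₁ * w₂ = w₂ * w₁ := hK.comm hc.w₁A hc.w₂A
  -- (K1) `p ≠ 1`
  have hp1 : p ≠ 1 := by
    intro e
    obtain ⟨u₀, hu₀P, hu₀, hs, -⟩ := hsurj q hq4
    have h1 : Fn.dd (f b) (u₀ * f v₁) = 1 := by
      rw [hf.dd_mul_right h hk fbJ hu₀ Ufv, hfd u₀ hu₀P, hs, hX, e, one_mul, hf.sq]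
    have h2 : f b * (u₀ * f v₁) = (u₀ * f v₁) * f b := by
      calc f b * (u₀ * f v₁) = Fn.dd (f b) (u₀ * f v₁) * ((u₀ * f v₁) * f b) := by
            simp only [Fn.dd]; group
        _ = _ := by rw [h1, one_mul]
    have h3 := hf.CC_of_comm h fbJ (hu₀.mul Ufv) (hne1 u₀ hu₀P) h2
    have h4 := (hCform _ h3 1 A.one_mem b hc.bA (by rw [one_mul])).2
    exact hc.bv_ne h4
  -- `[b, f(v₁)] = q w₁ f(w₁)`
  have hbf : Fn.dd b (f v₁) = q * w₁ * f w₁ := by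
    have Ufvv : Fn.UU hf h k (f v₁ * v₁) := Ufv.mul Uv₁
    have e1 : t * Fn.dd (f b) (f v₁) * t = Fn.dd (f b * b) (f v₁ * v₁) := by
      have ti := h.t_inv
      have hbt : t * f b * t = f b * b := hf.t_conj h hc.bA
      calc t * Fn.dd (f b) (f v₁) * t
          = (t * f b * t) * (t * f v₁ * t) * (t * f b * t)⁻¹ * (t * f v₁ * t)⁻¹ := by
            simp only [Fn.dd]
            rw [mul_inv_rev, mul_inv_rev, mul_inv_rev, mul_inv_rev, ti]
            have r : ∀ x y : G, x * t * (t * y) = x * y := fun x y => by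
              rw [mul_assoc, ← mul_assoc t t y, h.tt, one_mul]
            calc t * (f b * f v₁ * (f b)⁻¹ * (f v₁)⁻¹) * t
                = t * f b * (f v₁ * ((f b)⁻¹ * ((f v₁)⁻¹ * t))) := by group
              _ = t * f b * t * (t * (f v₁ * ((f b)⁻¹ * ((f v₁)⁻¹ * t)))) := by rw [r]
              _ = t * f b * t * ((t * f v₁) * ((f b)⁻¹ * ((f v₁)⁻¹ * t))) := by group
              _ = t * f b * t * (t * f v₁ * t * (t * ((f b)⁻¹ * ((f v₁)⁻¹ * t)))) := by rw [r]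
              _ = t * f b * t * (t * f v₁ * t * ((t * (f b)⁻¹) * ((f v₁)⁻¹ * t))) := by group
              _ = t * f b * t * (t * f v₁ * t * (t * (f b)⁻¹ * t * (t * ((f v₁)⁻¹ * t)))) := by
                  rw [r]
              _ = _ := by group
        _ = Fn.dd (f b * b) (f v₁ * v₁) := by rw [hbt, htv]
    have e2 : Fn.dd (f b * b) (f v₁ * v₁) =
        Fn.dd (f b) (f v₁) * f w₁ * (Fn.dd b (f v₁) * w₁) := by
      rw [hf.dd_mul_left h fbJ bJ Ufvv, hf.dd_mul_right h hk fbJ Ufv Uv₁,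
        hf.dd_mul_right h hk bJ Ufv Uv₁, hfd v₁ hv₁P, dbv₁]
    have e3 : t * Fn.dd (f b) (f v₁) * t = q * Fn.dd (f b) (f v₁) := by
      rw [hX]
      have := hf.comm_t h hpA hqA
      calc t * (p * f q) * t = t * (p * f q * t) := by group
        _ = t * (t * q * (p * f q)) := by rw [this]
        _ = (t * t) * (q * (p * f q)) := by group
        _ = q * (p * f q) := by rw [h.tt, one_mul]
    set X := Fn.dd (f b) (f v₁) with hXdef
    set Y := Fn.dd b (f v₁) with hYdef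
    have XJ : X ∈ hf.J₁ h := CX.j
    have YJ : Y ∈ hf.J₁ h := hf.dd_J h bJ Ufv
    have qJ := hf.A_le_J₁ h hqA
    have w₁J := hf.A_le_J₁ h hc.w₁A
    have fw₁J := hf.f_mem_J₁ h hc.w₁A
    have e4 : q * X = X * f w₁ * (Y * w₁) := by rw [← e3, e1, e2]
    have e5 : q = f w₁ * (Y * w₁) := by
      have : X * q = X * (f w₁ * (Y * w₁)) := by
        rw [hf.J₁_comm h XJ qJ, e4]; group
      exact mul_left_cancel this
    -- so `Y = f(w₁) q w₁`
    have hw1 : w₁ * w₁ = 1 := h.sq _ hc.w₁A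
    have hfw1 : f w₁ * f w₁ = 1 := hf.sq _
    calc Y = (f w₁ * f w₁) * Y * (w₁ * w₁) := by rw [hw1, hfw1, one_mul, mul_one]
      _ = f w₁ * (f w₁ * (Y * w₁)) * w₁ := by group
      _ = f w₁ * q * w₁ := by rw [← e5]
      _ = f w₁ * (q * w₁) := by group
      _ = q * w₁ * f w₁ := hf.J₁_comm h fw₁J (mul_mem qJ w₁J)
  -- (K2) `p ≠ w₁`
  have hpw : p ≠ w₁ := by
    intro e
    have hs4 : q * w₂ = 1 ∨ q * w₂ = w₁ ∨ q * w₂ = w₂ ∨ q * w₂ = w₁ * w₂ := by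
      have h22 : w₂ * w₂ = 1 := h.sq _ hc.w₂A
      rcases hq4 with e | e | e | e
      · right; right; left; rw [e, one_mul]
      · right; right; right; rw [e]
      · left; rw [e]; exact h22
      · right; left; rw [e, mul_assoc, h22, mul_one]
    obtain ⟨u₀, hu₀P, hu₀, hs, hcu⟩ := hsurj (q * w₂) hs4
    have hcA := mem_normalizer_iff.1 hc.cA
    set b' := c * b * c⁻¹ with hb'
    have hb'A : b' ∈ A := (hcA b).1 hc.bA
    have b'J := hf.A_le_J₁ h hb'A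
    have hq' : c * q * c⁻¹ ∈ A := (hcA q).1 hqA
    -- conjugating commutators by `c`
    have hdc : ∀ u, c * u = u * c → Fn.dd b' u = c * Fn.dd b u * c⁻¹ := by
      intro u hu
      have hu' : c * u * c⁻¹ = u := by rw [hu]; group
      calc Fn.dd b' u = Fn.dd (c * b * c⁻¹) (c * u * c⁻¹) := by rw [hu']
        _ = _ := by simp only [Fn.dd]; group
    have d1 : Fn.dd b' u₀ = (c * q * c⁻¹) * (w₁ * w₂) := by
      rw [hdc u₀ hcu, hs, ← hc.cw₂]; group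
    have hcf : c * f v₁ = f v₁ * c := hf.comm hc.cK hc.cv₁
    have d2 : Fn.dd b' (f v₁) = (c * q * c⁻¹) * w₂ * f w₂ := by
      rw [hdc _ hcf, hbf]
      have e1 : c * f w₁ * c⁻¹ = f w₂ := by rw [← hf.conj c hc.cK, hc.cw₁]
      calc c * (q * w₁ * f w₁) * c⁻¹ = (c * q * c⁻¹) * (c * w₁ * c⁻¹) * (c * f w₁ * c⁻¹) := by
            group
        _ = _ := by rw [hc.cw₁, e1]
    have d3 : Fn.dd (f b) u₀ = f (q * w₂) := by rw [hfd u₀ hu₀P, hs]
    have hU : Fn.UU hf h k (u₀ * f v₁) := hu₀.mul Ufv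
    have hD : Fn.dd (b' * f b) (u₀ * f v₁) = 1 := by
      rw [hf.dd_mul_left h b'J fbJ hU, hf.dd_mul_right h hk b'J hu₀ Ufv,
        hf.dd_mul_right h hk fbJ hu₀ Ufv, d1, d2, d3, hX, e]
      set s := c * q * c⁻¹ with hs'
      have hss : s * s = 1 := h.sq _ hq'
      have h11 : w₁ * w₁ = 1 := h.sq _ hc.w₁A
      have h22 : w₂ * w₂ = 1 := h.sq _ hc.w₂A
      have qq : q * q = 1 := h.sq _ hqA
      have f22 : f w₂ * f w₂ = 1 := hf.sq _
      have fqq : f q * f q = 1 := hf.sq _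
      have fm : f (q * w₂) = f q * f w₂ := hf.mul h hqA hc.w₂A
      have c1 : w₁ * f w₂ = f w₂ * w₁ := hf.Acomm h hc.w₁A hc.w₂A
      have c2 : w₁ * f q = f q * w₁ := hf.Acomm h hc.w₁A hqA
      have c3 : f q * f w₂ = f w₂ * f q := hf.fcomm h hqA hc.w₂A
      have c4 : s * w₁ = w₁ * s := hK.comm hq' hc.w₁A
      have c5 : s * w₂ = w₂ * s := hK.comm hq' hc.w₂A
      rw [fm]
      -- first coordinates
      have k1 : s * (w₁ * w₂) * (s * w₂ * f w₂) = w₁ * f w₂ := by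
        calc s * (w₁ * w₂) * (s * w₂ * f w₂) = s * w₁ * (w₂ * s) * w₂ * f w₂ := by group
          _ = s * w₁ * (s * w₂) * w₂ * f w₂ := by rw [c5]
          _ = (s * w₁) * s * (w₂ * w₂) * f w₂ := by group
          _ = (w₁ * s) * s * f w₂ := by rw [c4, h22, mul_one]
          _ = w₁ * (s * s) * f w₂ := by group
          _ = w₁ * f w₂ := by rw [hss, mul_one]
      rw [k1]
      calc w₁ * f w₂ * (f q * f w₂ * (w₁ * f q))
          = w₁ * f w₂ * (f q * f w₂ * (f q * w₁)) := by rw [c2]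
        _ = w₁ * f w₂ * ((f q * f w₂) * f q) * w₁ := by group
        _ = w₁ * f w₂ * ((f w₂ * f q) * f q) * w₁ := by rw [c3]
        _ = w₁ * (f w₂ * f w₂) * (f q * f q) * w₁ := by group
        _ = 1 := by rw [f22, fqq, mul_one, mul_one, h11]
    have h2 : (b' * f b) * (u₀ * f v₁) = (u₀ * f v₁) * (b' * f b) := by
      calc (b' * f b) * (u₀ * f v₁)
          = Fn.dd (b' * f b) (u₀ * f v₁) * ((u₀ * f v₁) * (b' * f b)) := by
            simp only [Fn.dd]; group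
        _ = _ := by rw [hD, one_mul]
    have h3 := hf.CC_of_comm h (mul_mem b'J fbJ) hU (hne1 u₀ hu₀P) h2
    have h4 := (hCform _ h3 b' hb'A b hc.bA rfl).2
    exact hc.bv_ne h4
  -- (K3) conjugation by `g`
  have hgA := mem_normalizer_iff.1 hc.hA
  set e₀ := g * b * g⁻¹ * b⁻¹ with he₀
  have he₀A : e₀ ∈ A := A.mul_mem ((hgA b).1 hc.bA) (A.inv_mem hc.bA)
  have he₀4 := hc.cenv e₀ he₀A hc.hb
  have Cfe₀ : Fn.CC hf h k (f e₀) := by
    rcases he₀4 with e | e | e | e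
    · rw [e, hf.one]
      exact ⟨one_mem _, by
        have : k⁻¹ * 1 * k = (1 : G) := by group
        rw [this]; exact one_mem _⟩
    · rw [e]; exact Cfw₁
    · rw [e]; exact Cfw₂
    · rw [e, hf.mul h hc.w₁A hc.w₂A]; exact Cfw₁.mul Cfw₂
  have hgf : g * f v₁ = f v₁ * g := hf.comm hc.hK hc.hv₁
  have hgX : g * Fn.dd (f b) (f v₁) * g⁻¹ = Fn.dd (f b) (f v₁) := by
    have hu' : g * f v₁ * g⁻¹ = f v₁ := by rw [hgf]; group
    have e1 : g * Fn.dd (f b) (f v₁) * g⁻¹ = Fn.dd (g * f b * g⁻¹) (g * f v₁ * g⁻¹) := by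
      simp only [Fn.dd]; group
    have e2 : g * b * g⁻¹ = e₀ * b := by rw [he₀]; group
    rw [e1, hu', ← hf.conj g hc.hK, e2, hf.mul h he₀A hc.bA,
      hf.dd_mul_left h (hf.f_mem_J₁ h he₀A) fbJ Ufv]
    have e3 : Fn.dd (f e₀) (f v₁) = 1 := by
      have := hf.comm_UC h hk Cfe₀ Ufv
      simp only [Fn.dd]; rw [this]; group
    rw [e3, one_mul]
  rw [hX] at hgX
  have hgp : g * p * g⁻¹ = p := by
    have e1 : g * (p * f q) * g⁻¹ = (g * p * g⁻¹) * f (g * q * g⁻¹) := by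
      rw [hf.conj g hc.hK]; group
    rw [e1] at hgX
    exact (hf.rep_inj h ((hgA p).1 hpA) ((hgA q).1 hqA) hpA hqA hgX).1
  rcases hp4 with e | e | e | e
  · exact hp1 e
  · exact hpw e
  · rw [e, hc.hw₂] at hgp
    exact hc.w₁1 (mul_eq_right.1 hgp)
  · have h1 : g * (w₁ * w₂) * g⁻¹ = g * w₂ * g⁻¹ := by
      rw [e] at hgp
      rw [hgp, hc.hw₂]
    have h2 : w₁ * w₂ = w₂ := mul_left_cancel (mul_right_cancel h1)
    exact hc.w₁1 (mul_eq_right.1 h2)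

end Cfsg.Agent.OddHalf.M23
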