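import Cfsg.Agent.OddHalf.M23.Sheet

/-!
# ODD half, D8, `K = M23`: the function `b ↦ y_b` (helper136)

`exists_fn`: a function `f` with `t^(f b) = t b`, `f b` an involution centralised by `C_K(b)`, `f` compatible
with conjugation in `K`, and a homomorphism on `A`.
-/

set_option autoImplicit false

open scoped commutatorElement

namespace Cfsg.Agent.OddHalf.M23

open Subgroup

variable {G : Type*} [Group G]

/-- `f b = y_b` -/
structure Fn (t z : G) (K : Subgroup G) (f : G → G) : Prop where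
  one : f 1 = 1
  conj : ∀ n ∈ K, ∀ b, f (n * b * n⁻¹) = n * f b * n⁻¹
  sq : ∀ b, f b * f b = 1
  tc : ∀ n ∈ K, f (n * z * n⁻¹) * t = t * (n * z * n⁻¹) * f (n * z * n⁻¹)

namespace Hyp

variable {t z : G} {K A F₀ : Subgroup G}

theorem exists_fn₀ (h : Hyp t z K A F₀) : ∃ f : G → G, Fn t z K f := by
  classical
  obtain ⟨y, hyy, hyP, hyt⟩ := h.exists_y
  -- well-defined
  have wd : ∀ k ∈ K, ∀ k' ∈ K, k * z * k⁻¹ = k' * z * k'⁻¹ → k * y * k⁻¹ = k' * y * k'⁻¹ := by
    intro k hk k' hk' e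
    have hP : k⁻¹ * k' ∈ PP K z := by
      refine ⟨K.mul_mem (K.inv_mem hk) hk', mem_cz.2 ?_⟩
      calc k⁻¹ * k' * z = k⁻¹ * (k' * z * k'⁻¹) * k' := by group
        _ = k⁻¹ * (k * z * k⁻¹) * k' := by rw [e]
        _ = _ := by group
    have := hyP _ hP
    calc k * y * k⁻¹ = k * (y * (k⁻¹ * k')) * k'⁻¹ := by group
      _ = k * (k⁻¹ * k' * y) * k'⁻¹ := by rw [this]
      _ = _ := by group
  refine ⟨fun b => if hb : ∃ k ∈ K, k * z * k⁻¹ = b then hb.choose * y * hb.choose⁻¹ else 1,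
    ?_, ?_, ?_, ?_⟩
  · show (if hb : ∃ k ∈ K, k * z * k⁻¹ = 1 then hb.choose * y * hb.choose⁻¹ else 1) = 1
    rw [dif_neg]
    rintro ⟨k, -, hk⟩
    apply h.z1
    calc z = k⁻¹ * (k * z * k⁻¹) * k := by group
      _ = 1 := by rw [hk]; group
  · intro n hn b
    show (if hb : ∃ k ∈ K, k * z * k⁻¹ = n * b * n⁻¹ then hb.choose * y * hb.choose⁻¹ else 1) =
      n * (if hb : ∃ k ∈ K, k * z * k⁻¹ = b then hb.choose * y * hb.choose⁻¹ else 1) * n⁻¹
    by_cases hb : ∃ k ∈ K, k * z * k⁻¹ = b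
    · have hb' : ∃ k ∈ K, k * z * k⁻¹ = n * b * n⁻¹ := by
        obtain ⟨k, hk, e⟩ := hb
        exact ⟨n * k, K.mul_mem hn hk, by rw [← e]; group⟩
      rw [dif_pos hb, dif_pos hb']
      have e1 := hb.choose_spec
      have e2 := hb'.choose_spec
      have e3 : n * (hb.choose * y * hb.choose⁻¹) * n⁻¹ =
          (n * hb.choose) * y * (n * hb.choose)⁻¹ := by group
      rw [e3]
      apply wd _ e2.1 _ (K.mul_mem hn e1.1)
      rw [e2.2]
      calc n * b * n⁻¹ = n * (hb.choose * z * hb.choose⁻¹) * n⁻¹ := by rw [e1.2]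
        _ = _ := by group
    · have hb' : ¬ ∃ k ∈ K, k * z * k⁻¹ = n * b * n⁻¹ := by
        rintro ⟨k, hk, e⟩
        apply hb
        refine ⟨n⁻¹ * k, K.mul_mem (K.inv_mem hn) hk, ?_⟩
        calc n⁻¹ * k * z * (n⁻¹ * k)⁻¹ = n⁻¹ * (k * z * k⁻¹) * n := by group
          _ = n⁻¹ * (n * b * n⁻¹) * n := by rw [e]
          _ = b := by group
      rw [dif_neg hb, dif_neg hb']
      group
  · intro b
    show (if hb : ∃ k ∈ K, k * z * k⁻¹ = b then hb.choose * y * hb.choose⁻¹ else 1) *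
      (if hb : ∃ k ∈ K, k * z * k⁻¹ = b then hb.choose * y * hb.choose⁻¹ else 1) = 1
    by_cases hb : ∃ k ∈ K, k * z * k⁻¹ = b
    · rw [dif_pos hb]
      calc hb.choose * y * hb.choose⁻¹ * (hb.choose * y * hb.choose⁻¹)
          = hb.choose * (y * y) * hb.choose⁻¹ := by group
        _ = 1 := by rw [hyy]; group
    · rw [dif_neg hb, one_mul]
  · intro n hn
    show (if hb : ∃ k ∈ K, k * z * k⁻¹ = n * z * n⁻¹ then hb.choose * y * hb.choose⁻¹ else 1) * t =
      t * (n * z * n⁻¹) *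
      (if hb : ∃ k ∈ K, k * z * k⁻¹ = n * z * n⁻¹ then hb.choose * y * hb.choose⁻¹ else 1)
    have hb : ∃ k ∈ K, k * z * k⁻¹ = n * z * n⁻¹ := ⟨n, hn, rfl⟩
    rw [dif_pos hb]
    have e1 := hb.choose_spec
    rw [wd _ e1.1 n hn e1.2]
    have e2 : y * t = t * z * y := by rw [← hyt]; group
    have e3 := h.Kt _ (K.inv_mem hn)
    calc n * y * n⁻¹ * t = n * y * (n⁻¹ * t) := by group
      _ = n * y * (t * n⁻¹) := by rw [e3]
      _ = n * (y * t) * n⁻¹ := by group
      _ = n * (t * z * y) * n⁻¹ := by rw [e2]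
      _ = (n * t) * (z * y) * n⁻¹ := by group
      _ = (t * n) * (z * y) * n⁻¹ := by rw [h.Kt n hn]
      _ = t * (n * z * n⁻¹) * (n * y * n⁻¹) := by group

end Hyp

namespace Fn

variable {t z : G} {K A F₀ : Subgroup G} {f : G → G}

theorem inv (hf : Fn t z K f) (b : G) : (f b)⁻¹ = f b := inv_eq_of_mul_eq_one_left (hf.sq b)

/-- elements of `K` commuting with `b` commute with `f b` -/
theorem comm (hf : Fn t z K f) {n b : G} (hn : n ∈ K) (hb : n * b = b * n) :
    n * f b = f b * n := by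
  have h1 := hf.conj n hn b
  rw [conj_eq_iff.2 hb] at h1
  exact conj_eq_iff.1 h1.symm

theorem t_mul (hf : Fn t z K f) (h : Hyp t z K A F₀) {b : G} (hb : b ∈ A) :
    f b * t = t * b * f b := by
  by_cases hb1 : b = 1
  · rw [hb1, hf.one]; group
  · obtain ⟨n, hn, -, rfl⟩ := h.exists_conj hb hb1
    exact hf.tc n hn

theorem Acomm (hf : Fn t z K f) (h : Hyp t z K A F₀) {a b : G} (ha : a ∈ A) (hb : b ∈ A) :
    a * f b = f b * a :=
  hf.comm (h.AK ha) (h.toKFacts.comm ha hb)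

/-- `t f(b) t = f(b) b` -/
theorem t_conj (hf : Fn t z K f) (h : Hyp t z K A F₀) {b : G} (hb : b ∈ A) :
    t * f b * t = f b * b := by
  have h1 := hf.t_mul h hb
  have h2 := hf.Acomm h hb hb
  calc t * f b * t = t * (f b * t) := by group
    _ = t * (t * b * f b) := by rw [h1]
    _ = (t * t) * (b * f b) := by group
    _ = f b * b := by rw [h.tt, one_mul, h2]

theorem t_mul' (hf : Fn t z K f) (h : Hyp t z K A F₀) {b : G} (hb : b ∈ A) :
    t * f b = f b * b * t := by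
  rw [← hf.t_conj h hb, mul_assoc _ t t, h.tt, mul_one]

/-- the dichotomy for `f(a) f(b) f(ab)` -/
theorem dich (hf : Fn t z K f) (h : Hyp t z K A F₀) {a b : G} (ha : a ∈ A) (hb : b ∈ A)
    (ha1 : a ≠ 1) (hb1 : b ≠ 1) (hab : a ≠ b) :
    f a * f b * f (a * b) = 1 ∨ f a * f b * f (a * b) = t * b := by
  have hH := h.toKFacts
  have habA := A.mul_mem ha hb
  have haa := h.sq a ha
  have hbb := h.sq b hb
  have hcab := hH.comm ha hb
  have hab1 : a * b ≠ 1 := by
    intro e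
    apply hab
    rw [← hH.inv hb]; exact eq_inv_of_mul_eq_one_left e
  set X := f a * f b * f (a * b) with hX
  -- commutes with `t`
  have hXt : X * t = t * X := by
    have e1 : X * t = t * (a * (b * (a * b))) * X := by
      calc X * t = f a * f b * (f (a * b) * t) := by rw [hX]; group
        _ = f a * f b * (t * (a * b) * f (a * b)) := by rw [hf.t_mul h habA]
        _ = f a * (f b * t) * (a * b) * f (a * b) := by group
        _ = f a * (t * b * f b) * (a * b) * f (a * b) := by rw [hf.t_mul h hb]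
        _ = (f a * t) * b * (f b * (a * b)) * f (a * b) := by group
        _ = (t * a * f a) * b * (a * b * f b) * f (a * b) := by
            rw [hf.t_mul h ha, hf.Acomm h habA hb]
        _ = t * a * (f a * (b * (a * b))) * f b * f (a * b) := by group
        _ = t * a * (b * (a * b) * f a) * f b * f (a * b) := by
            rw [hf.Acomm h (A.mul_mem hb habA) ha]
        _ = _ := by rw [hX]; group
    have e2 : a * (b * (a * b)) = 1 := by
      calc a * (b * (a * b)) = a * (b * (b * a)) := by rw [hcab]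
        _ = a * ((b * b) * a) := by group
        _ = 1 := by rw [hbb, one_mul, haa]
    rw [e1, e2, mul_one]
  obtain ⟨k, hk, hXk⟩ := h.cen' hXt
  have hkX : k = X ∨ k = t * X := by
    rcases hXk with e | e
    · exact Or.inl e.symm
    · right; rw [e, ← mul_assoc, h.tt, one_mul]
  -- whatever commutes with `a`, `b` commutes with `X` and `k`
  have hcX : ∀ n ∈ K, n * a = a * n → n * b = b * n → n * k = k * n := by
    intro n hn hna hnb
    have h1 := hf.comm hn hna
    have h2 := hf.comm hn hnb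
    have h3 : n * (a * b) = a * b * n := by
      rw [← mul_assoc, hna, mul_assoc, hnb, mul_assoc]
    have h4 := hf.comm hn h3
    have h5 : n * X = X * n := by
      calc n * X = (n * f a) * f b * f (a * b) := by rw [hX]; group
        _ = f a * (n * f b) * f (a * b) := by rw [h1]; group
        _ = f a * f b * (n * f (a * b)) := by rw [h2]; group
        _ = X * n := by rw [h4, hX]; group
    rcases hkX with e | e
    · rw [e]; exact h5
    · rw [e]
      calc n * (t * X) = (n * t) * X := by group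
        _ = t * (n * X) := by rw [h.Kt n hn]; group
        _ = _ := by rw [h5]; group
  have hkA : k ∈ A := h.cenA k hk (fun c hc =>
    (hcX c (h.AK hc) (hH.comm hc ha) (hH.comm hc hb)).symm)
  have hkl := hH.line' ha hb ha1 hb1 hab hkA hcX
  -- the cycle `a → b → ab → a`
  obtain ⟨n, hnK, hnA, hna, hnb⟩ := h.two a ha b hb b hb (a * b) habA ha1 hb1 hab hb1 hab1
    (fun e => ha1 (mul_eq_right.1 e.symm))
  have hnab : n * (a * b) * n⁻¹ = a := by
    calc n * (a * b) * n⁻¹ = (n * a * n⁻¹) * (n * b * n⁻¹) := by group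
      _ = b * (a * b) := by rw [hna, hnb]
      _ = b * (b * a) := by rw [hcab]
      _ = a := by rw [← mul_assoc, hbb, one_mul]
  have hnX : n * X * n⁻¹ = f a * X * f a := by
    calc n * X * n⁻¹ = (n * f a * n⁻¹) * (n * f b * n⁻¹) * (n * f (a * b) * n⁻¹) := by
          rw [hX]; group
      _ = f (n * a * n⁻¹) * f (n * b * n⁻¹) * f (n * (a * b) * n⁻¹) := by
          rw [hf.conj n hnK, hf.conj n hnK, hf.conj n hnK]
      _ = f b * f (a * b) * f a := by rw [hna, hnb, hnab]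
      _ = (f a * f a) * (f b * f (a * b) * f a) := by rw [hf.sq, one_mul]
      _ = f a * X * f a := by rw [hX]; group
  rcases hXk with e | e
  · left
    have h1 : n * k * n⁻¹ = k := by
      rw [← e, hnX, e]
      calc f a * k * f a = (k * f a) * f a := by rw [hf.Acomm h hkA ha]
        _ = k := by rw [mul_assoc, hf.sq, mul_one]
    rw [e]
    rcases hkl with e1 | e1 | e1 | e1
    · exact e1
    · rw [e1, hna] at h1; exact absurd h1.symm hab
    · rw [e1, hnb] at h1; exact absurd (mul_eq_right.1 h1) ha1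
    · rw [e1, hnab] at h1; exact absurd (mul_eq_left.1 h1.symm) hb1
  · right
    have h1 : n * k * n⁻¹ = a * k := by
      have h2 : n * (t * k) * n⁻¹ = t * (a * k) := by
        rw [← e, hnX, e]
        calc f a * (t * k) * f a = (f a * t) * (k * f a) := by group
          _ = t * a * f a * (f a * k) := by rw [hf.t_mul h ha, hf.Acomm h hkA ha]
          _ = t * a * (f a * f a) * k := by group
          _ = t * (a * k) := by rw [hf.sq, mul_one, mul_assoc]
      have h3 : n * (t * k) * n⁻¹ = t * (n * k * n⁻¹) := by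
        calc n * (t * k) * n⁻¹ = (n * t) * k * n⁻¹ := by group
          _ = _ := by rw [h.Kt n hnK]; group
      rw [h3] at h2
      exact mul_left_cancel h2
    rw [e]
    rcases hkl with e1 | e1 | e1 | e1
    · exfalso
      rw [e1] at h1
      exact ha1 (by simpa using h1.symm)
    · exfalso
      rw [e1, hna, haa] at h1
      exact hb1 h1
    · rw [e1]
    · exfalso
      rw [e1, hnab, ← mul_assoc, haa, one_mul] at h1
      exact hab h1

/-- transport by 2-transitivity -/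
theorem dich_one (hf : Fn t z K f) (h : Hyp t z K A F₀) {a b a' b' : G} (ha : a ∈ A) (hb : b ∈ A)
    (ha1 : a ≠ 1) (hb1 : b ≠ 1) (hab : a ≠ b) (ha' : a' ∈ A) (hb' : b' ∈ A)
    (ha1' : a' ≠ 1) (hb1' : b' ≠ 1) (hab' : a' ≠ b') (h1 : f a * f b * f (a * b) = 1) :
    f a' * f b' * f (a' * b') = 1 := by
  obtain ⟨n, hnK, hnA, hna, hnb⟩ := h.two a ha b hb a' ha' b' hb' ha1 hb1 hab ha1' hb1' hab'
  have e : a' * b' = n * (a * b) * n⁻¹ := by rw [← hna, ← hnb]; group
  rw [e, ← hna, ← hnb, hf.conj n hnK, hf.conj n hnK, hf.conj n hnK]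
  calc n * f a * n⁻¹ * (n * f b * n⁻¹) * (n * f (a * b) * n⁻¹)
      = n * (f a * f b * f (a * b)) * n⁻¹ := by group
    _ = 1 := by rw [h1]; group

/-- the second case of the dichotomy is impossible -/
theorem all_one (hf : Fn t z K f) (h : Hyp t z K A F₀) {a b : G} (ha : a ∈ A) (hb : b ∈ A)
    (ha1 : a ≠ 1) (hb1 : b ≠ 1) (hab : a ≠ b) : f a * f b * f (a * b) = 1 := by
  by_contra hcon
  have hH := h.toKFacts
  -- all pairs are of the second kind
  have hβ : ∀ x ∈ A, ∀ y ∈ A, x ≠ 1 → y ≠ 1 → x ≠ y → f x * f y * f (x * y) = t * y := by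
    intro x hx y hy hx1 hy1 hxy
    rcases hf.dich h hx hy hx1 hy1 hxy with e | e
    · exact absurd (hf.dich_one h hx hy hx1 hy1 hxy ha hb ha1 hb1 hab e) hcon
    · exact e
  have tt := h.tt
  -- `r x = t f(x)`
  have hr : ∀ x ∈ A, ∀ y ∈ A, x ≠ 1 → y ≠ 1 → x ≠ y →
      (t * f x) * (t * f y) * (t * f (x * y)) = 1 := by
    intro x hx y hy hx1 hy1 hxy
    have hxyA := A.mul_mem hx hy
    calc (t * f x) * (t * f y) * (t * f (x * y))
        = (t * f x * t) * f y * (t * f (x * y)) := by group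
      _ = f x * x * f y * (f (x * y) * (x * y) * t) := by
          rw [hf.t_conj h hx, hf.t_mul' h hxyA]
      _ = f x * (x * (f y * f (x * y))) * (x * y) * t := by group
      _ = f x * ((f y * f (x * y)) * x) * (x * y) * t := by
          have : x * (f y * f (x * y)) = f y * f (x * y) * x := by
            rw [← mul_assoc, hf.Acomm h hx hy, mul_assoc, hf.Acomm h hx hxyA, mul_assoc]
          rw [this]
      _ = (f x * f y * f (x * y)) * ((x * x) * y) * t := by group
      _ = t * (y * y) * t := by rw [hβ x hx y hy hx1 hy1 hxy, h.sq x hx, one_mul]; group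
      _ = 1 := by rw [h.sq y hy, mul_one, tt]
  have hrr : ∀ x ∈ A, (t * f x) * (t * f x) = x := by
    intro x hx
    calc (t * f x) * (t * f x) = (t * f x * t) * f x := by group
      _ = f x * (x * f x) := by rw [hf.t_conj h hx]; group
      _ = f x * f x * x := by rw [hf.Acomm h hx hx]; group
      _ = x := by rw [hf.sq, one_mul]
  have hr' : ∀ x ∈ A, ∀ y ∈ A, x ≠ 1 → y ≠ 1 → x ≠ y →
      (t * f (x * y)) = ((t * f x) * (t * f y))⁻¹ := fun x hx y hy hx1 hy1 hxy =>
    eq_inv_of_mul_eq_one_right (hr x hx y hy hx1 hy1 hxy)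
  have hrc : ∀ x ∈ A, ∀ y ∈ A, x ≠ 1 → y ≠ 1 → x ≠ y →
      (t * f x) * (t * f y) = (t * f y) * (t * f x) := by
    intro x hx y hy hx1 hy1 hxy
    have e1 := hr' x hx y hy hx1 hy1 hxy
    have e2 := hr' y hy x hx hy1 hx1 (Ne.symm hxy)
    rw [hH.comm hy hx, e1] at e2
    exact inv_injective e2
  -- three independent elements
  obtain ⟨k, v₁, v₂, b₃, b₁, b₂, c, h', hc⟩ := h.cfg
  have hb₁v : b₁ * v₁ = v₁ * b₁ := by
    -- `b₁ = [b₃, v₁]`, `v₁` an involution
    have hvv : v₁ * v₁ = 1 := by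
      have := h.sq _ hc.v₁A
      calc v₁ * v₁ = k * (k⁻¹ * v₁ * k * (k⁻¹ * v₁ * k)) * k⁻¹ := by group
        _ = 1 := by rw [this]; group
    have hvi : v₁⁻¹ = v₁ := inv_eq_of_mul_eq_one_left hvv
    have hbi := hH.inv hc.bA
    have hb1i := hH.inv hc.w₁A
    have e1 := hc.bv₁
    have e2 : v₁ * b₁ * v₁⁻¹ = b₁⁻¹ := by
      rw [← e1, mul_inv_rev, mul_inv_rev, mul_inv_rev, inv_inv, inv_inv, hbi, hvi]
      calc v₁ * (b₃ * v₁ * b₃ * v₁) * v₁ = v₁ * b₃ * v₁ * b₃ * (v₁ * v₁) := by group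
        _ = v₁ * (b₃ * (v₁ * b₃)) := by rw [hvv]; group
    rw [hb1i] at e2
    exact (conj_eq_iff.1 e2).symm
  have hb₃v : b₃ * v₁ ≠ v₁ * b₃ := by
    intro e
    apply hc.w₁1
    rw [← hc.bv₁, e]; group
  have n1 := hc.w₁1
  have n2 := hc.w₂1
  have n12 := hc.ne
  have n3 : b₃ ≠ 1 := by rintro rfl; exact hb₃v (by group)
  have n23 : b₂ ≠ b₃ := by rintro rfl; exact hb₃v hc.w₂v₁
  have n13 : b₁ ≠ b₃ := by rintro rfl; exact hb₃v hb₁v
  have n1b2 : b₁ * b₂ ≠ 1 := by
    intro e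
    apply n12
    rw [← hH.inv hc.w₂A]; exact eq_inv_of_mul_eq_one_left e
  have n2b3 : b₂ * b₃ ≠ 1 := by
    intro e
    apply n23
    rw [← hH.inv hc.bA]; exact eq_inv_of_mul_eq_one_left e
  have n123 : b₁ * b₂ ≠ b₃ := by
    rintro e
    apply hb₃v
    rw [← e, mul_assoc, hc.w₂v₁, ← mul_assoc, hb₁v, mul_assoc]
  have n123' : b₁ ≠ b₂ * b₃ := by
    intro e
    apply n123
    rw [e]
    calc b₂ * b₃ * b₂ = b₂ * (b₃ * b₂) := by group
      _ = b₂ * (b₂ * b₃) := by rw [hH.comm hc.bA hc.w₂A]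
      _ = b₃ := by rw [← mul_assoc, h.sq _ hc.w₂A, one_mul]
  have e1 := hr' _ (A.mul_mem hc.w₁A hc.w₂A) b₃ hc.bA n1b2 n3 n123
  have e2 := hr' b₁ hc.w₁A _ (A.mul_mem hc.w₂A hc.bA) n1 n2b3 n123'
  have e3 := hr' b₁ hc.w₁A b₂ hc.w₂A n1 n2 n12
  have e4 := hr' b₂ hc.w₂A b₃ hc.bA n2 n3 n23
  have c12 := hrc b₁ hc.w₁A b₂ hc.w₂A n1 n2 n12
  have c13 := hrc b₁ hc.w₁A b₃ hc.bA n1 n3 n13
  have c23 := hrc b₂ hc.w₂A b₃ hc.bA n2 n3 n23
  have s1 := hrr b₁ hc.w₁A
  have s3 := hrr b₃ hc.bA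
  rw [mul_assoc b₁ b₂ b₃] at e1
  rw [e3] at e1
  rw [e4] at e2
  rw [e1] at e2
  set r₁ := t * f b₁
  set r₂ := t * f b₂
  set r₃ := t * f b₃
  -- `((r₁r₂)⁻¹ r₃)⁻¹ = (r₁ (r₂r₃)⁻¹)⁻¹`
  have e5 := inv_injective e2
  have e6 : r₃ * (r₂ * r₃) = r₁ * r₂ * r₁ := by
    calc r₃ * (r₂ * r₃) = (r₁ * r₂) * ((r₁ * r₂)⁻¹ * r₃) * (r₂ * r₃) := by group
      _ = (r₁ * r₂) * (r₁ * (r₂ * r₃)⁻¹) * (r₂ * r₃) := by rw [e5]
      _ = _ := by group
  have e7 : r₂ * (r₃ * r₃) = r₂ * (r₁ * r₁) := by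
    calc r₂ * (r₃ * r₃) = (r₂ * r₃) * r₃ := by group
      _ = (r₃ * r₂) * r₃ := by rw [c23]
      _ = r₃ * (r₂ * r₃) := by group
      _ = r₁ * r₂ * r₁ := e6
      _ = r₂ * r₁ * r₁ := by rw [c12]
      _ = _ := by group
  have e8 := mul_left_cancel e7
  rw [s1, s3] at e8
  exact n13 e8.symm

/-- `f` is a homomorphism on `A` -/
theorem mul (hf : Fn t z K f) (h : Hyp t z K A F₀) {a b : G} (ha : a ∈ A) (hb : b ∈ A) :
    f (a * b) = f a * f b := by
  by_cases ha1 : a = 1
  · rw [ha1, hf.one, one_mul, one_mul]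
  by_cases hb1 : b = 1
  · rw [hb1, hf.one, mul_one, mul_one]
  by_cases hab : a = b
  · rw [hab, h.sq b hb, hf.one, hf.sq]
  · have h1 := hf.all_one h ha hb ha1 hb1 hab
    have h2 : f (a * b) = (f a * f b)⁻¹ := eq_inv_of_mul_eq_one_right h1
    have h3 : f b * f a * f (b * a) = 1 := hf.all_one h hb ha hb1 ha1 (Ne.symm hab)
    have h4 : f (b * a) = (f b * f a)⁻¹ := eq_inv_of_mul_eq_one_right h3
    rw [h.toKFacts.comm ha hb, h4, mul_inv_rev, hf.inv, hf.inv]

theorem fcomm (hf : Fn t z K f) (h : Hyp t z K A F₀) {a b : G} (ha : a ∈ A) (hb : b ∈ A) :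
    f a * f b = f b * f a := by
  rw [← hf.mul h ha hb, h.toKFacts.comm ha hb, hf.mul h hb ha]

end Fn

end Cfsg.Agent.OddHalf.M23
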