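import Cfsg.Agent.OddHalf.M23.CoreEnd

/-!
# ODD half, D8, `K = M23`: `N_G(J₁)` is transitive on `J₁#` (helper136)
-/

set_option autoImplicit false

open scoped commutatorElement

namespace Cfsg.Agent.OddHalf.M23

open Subgroup

variable {G : Type*} [Group G]

namespace Hyp

variable {t z : G} {K A F₀ : Subgroup G}

/-- if `A` is normal in `H`, then `C_H(A) ∩ C_H(F₀/A) ≤ F₀` -/
theorem mem_F_of_two_step [Finite G] (h : Hyp t z K A F₀)
    (hHA : centralizer ({z} : Set G) ≤ normalizer (A : Set G)) {y : G}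
    (hy1 : y ∈ centralizer ({z} : Set G)) (hy2 : ∀ a ∈ A, y * a = a * y)
    (hy3 : ∀ x ∈ F₀, y * x * y⁻¹ * x⁻¹ ∈ A) : y ∈ F₀ := by
  set Y : Subgroup G := centralizer ({z} : Set G) ⊓ (centralizer (A : Set G) ⊓
    SignalizersComponents.PerfectGoingUp.commMod A (F₀ : Set G)) with hY
  have hmemY : ∀ y, y ∈ Y ↔ y ∈ centralizer ({z} : Set G) ∧ (∀ a ∈ A, y * a = a * y) ∧
      ∀ x ∈ F₀, y * x * y⁻¹ * x⁻¹ ∈ A := by
    intro y
    constructor
    · rintro ⟨h1, h2, h3, h4⟩
      exact ⟨h1, fun a ha => (mem_centralizer_iff.1 h2 a ha).symm, fun x hx => h4 x hx⟩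
    · rintro ⟨h1, h2, h3⟩
      refine ⟨h1, mem_centralizer_iff.2 (fun a ha => (h2 a ha).symm), hHA h1, fun x hx => h3 x hx⟩
  have hYF : Y ≤ F₀ := by
    refine h.Fmax Y inf_le_left ?_ ?_
    · apply isPGroup_of_sq h.F2
      intro y hy
      obtain ⟨h1, h2, h3⟩ := (hmemY y).1 hy
      exact h.Fcen _ (mul_mem h1 h1) (sq_comm_of_two_step h.sq h2 h3)
    · intro g hg
      have hgF := mem_normalizer_iff.1 (h.FN hg)
      have hgA := mem_normalizer_iff.1 (hHA hg)
      apply mem_normalizer_of_le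
      intro y hy
      obtain ⟨h1, h2, h3⟩ := (hmemY y).1 hy
      rw [hmemY]
      refine ⟨mul_mem (mul_mem hg h1) (inv_mem hg), ?_, ?_⟩
      · intro a ha
        have ha' : g⁻¹ * a * g ∈ A := by
          rw [hgA]
          have : g * (g⁻¹ * a * g) * g⁻¹ = a := by group
          rw [this]; exact ha
        have e := h2 _ ha'
        calc g * y * g⁻¹ * a = g * (y * (g⁻¹ * a * g)) * g⁻¹ := by group
          _ = g * (g⁻¹ * a * g * y) * g⁻¹ := by rw [e]
          _ = _ := by group
      · intro x hx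
        have hx' : g⁻¹ * x * g ∈ F₀ := by
          rw [hgF]
          have : g * (g⁻¹ * x * g) * g⁻¹ = x := by group
          rw [this]; exact hx
        have e : g * y * g⁻¹ * x * (g * y * g⁻¹)⁻¹ * x⁻¹ =
            g * (y * (g⁻¹ * x * g) * y⁻¹ * (g⁻¹ * x * g)⁻¹) * g⁻¹ := by group
        rw [e]
        exact (hgA _).1 (h3 _ hx')
  exact hYF ((hmemY y).2 ⟨hy1, hy2, hy3⟩)

end Hyp

/-- the action on subgroups -/
abbrev act (g : G) (B : Subgroup G) : Subgroup G := B.map (MulAut.conj g).toMonoidHom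

theorem mem_act {g x : G} {B : Subgroup G} : x ∈ act g B ↔ ∃ b ∈ B, g * b * g⁻¹ = x := by
  constructor
  · rintro ⟨b, hb, rfl⟩; exact ⟨b, hb, rfl⟩
  · rintro ⟨b, hb, rfl⟩; exact ⟨b, hb, rfl⟩

theorem act_mul (g h : G) (B : Subgroup G) : act (g * h) B = act g (act h B) := by
  ext x
  rw [mem_act, mem_act]
  constructor
  · rintro ⟨b, hb, rfl⟩
    exact ⟨h * b * h⁻¹, mem_act.2 ⟨b, hb, rfl⟩, by group⟩
  · rintro ⟨y, hy, rfl⟩
    obtain ⟨b, hb, rfl⟩ := mem_act.1 hy
    exact ⟨b, hb, by group⟩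

theorem act_one (B : Subgroup G) : act 1 B = B := by
  ext x
  rw [mem_act]
  constructor
  · rintro ⟨b, hb, rfl⟩
    have : (1 : G) * b * 1⁻¹ = b := by group
    rw [this]; exact hb
  · intro hx
    exact ⟨x, hx, by group⟩

theorem act_inv {g : G} {B C : Subgroup G} (h : act g B = C) : act g⁻¹ C = B := by
  rw [← h, ← act_mul, inv_mul_cancel, act_one]

theorem card_act (g : G) (B : Subgroup G) : Nat.card (act g B) = Nat.card B :=
  card_map_of_injective (MulAut.conj g).injective

namespace Fn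

variable {t z : G} {K A F₀ : Subgroup G} {f : G → G}

/-- uniqueness of the representation -/
theorem rep_inj (hf : Fn t z K f) (h : Hyp t z K A F₀) {a b a' b' : G} (ha : a ∈ A) (hb : b ∈ A)
    (ha' : a' ∈ A) (hb' : b' ∈ A) (e : a * f b = a' * f b') : a = a' ∧ b = b' := by
  have h1 := hf.comm_t h ha hb
  have h2 := hf.comm_t h ha' hb'
  rw [e, h2] at h1
  have h3 : t * b' = t * b := mul_right_cancel h1
  have h4 : b' = b := mul_left_cancel h3
  rw [h4] at e
  exact ⟨mul_right_cancel e, h4.symm⟩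

theorem f_inj (hf : Fn t z K f) (h : Hyp t z K A F₀) {b b' : G} (hb : b ∈ A) (hb' : b' ∈ A)
    (e : f b = f b') : b = b' :=
  (hf.rep_inj h A.one_mem hb A.one_mem hb' (by rw [e])).2

theorem f_ne_one (hf : Fn t z K f) (h : Hyp t z K A F₀) {b : G} (hb : b ∈ A) (hb1 : b ≠ 1) :
    f b ≠ 1 := by
  intro e
  exact hb1 (hf.f_inj h hb A.one_mem (by rw [e, hf.one]))

theorem rep_mem_A (hf : Fn t z K f) (h : Hyp t z K A F₀) {a b : G} (ha : a ∈ A) (hb : b ∈ A)
    (e : a * f b ∈ A) : b = 1 :=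
  (hf.rep_inj h ha hb e A.one_mem (by rw [hf.one, mul_one])).2

/-- if `H` permutes `{A₁, A₂}`, then `t ∉ H'` -/
theorem perm_false [Finite G] (hf : Fn t z K f) (h : Hyp t z K A F₀)
    (hS : ∀ g ∈ centralizer ({z} : Set G), ∀ b ∈ A, ∃ b' ∈ A, g * f b * g⁻¹ = f b' ∨
      g * f b * g⁻¹ = b' * f b') : False := by
  have hK := h.toKFacts
  -- `g` maps `A₁` to `A₁` or `A₂ = A₁^t`
  have hmemA₂ : ∀ x, x ∈ act t (hf.A₁ h) ↔ ∃ b ∈ A, x = b * f b := by
    intro x
    rw [mem_act]
    constructor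
    · rintro ⟨_, ⟨b, hb, rfl⟩, rfl⟩
      exact ⟨b, hb, by rw [h.t_inv, hf.t_conj h hb, hf.Acomm h hb hb]⟩
    · rintro ⟨b, hb, rfl⟩
      exact ⟨f b, ⟨b, hb, rfl⟩, by rw [h.t_inv, hf.t_conj h hb, hf.Acomm h hb hb]⟩
  have hne : act t (hf.A₁ h) ≠ hf.A₁ h := by
    intro e
    have h1 : z * f z ∈ act t (hf.A₁ h) := (hmemA₂ _).2 ⟨z, h.zA, rfl⟩
    rw [e] at h1
    obtain ⟨b, hb, e1⟩ := h1
    exact h.z1 (hf.rep_inj h h.zA h.zA A.one_mem hb (by rw [e1, one_mul])).1
  have hcard : Nat.card (act t (hf.A₁ h)) = Nat.card (hf.A₁ h) := card_act _ _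
  have hone : ∀ g ∈ centralizer ({z} : Set G), act g (hf.A₁ h) = hf.A₁ h ∨
      act g (hf.A₁ h) = act t (hf.A₁ h) := by
    intro g hg
    by_cases hall : ∀ b ∈ A, ∃ b' ∈ A, g * f b * g⁻¹ = f b'
    · left
      refine eq_of_le_of_card_ge ?_ (card_act _ _).ge
      intro x hx
      obtain ⟨_, ⟨b, hb, rfl⟩, rfl⟩ := mem_act.1 hx
      obtain ⟨b', hb', e⟩ := hall b hb
      exact ⟨b', hb', e⟩
    · right
      push Not at hall
      obtain ⟨b₀, hb₀, hb₀'⟩ := hall
      refine eq_of_le_of_card_ge ?_ (by rw [card_act, card_act])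
      intro x hx
      obtain ⟨_, ⟨b, hb, rfl⟩, rfl⟩ := mem_act.1 hx
      rw [hmemA₂]
      obtain ⟨d, hd, e | e⟩ := hS g hg b₀ hb₀
      · exact absurd e (hb₀' d hd)
      have hd1 : d ≠ 1 := by
        intro e1
        apply hb₀' 1 A.one_mem
        rw [e, e1, one_mul]
      obtain ⟨c, hc, e' | e'⟩ := hS g hg b hb
      · -- then `c = 1`
        by_cases hc1 : c = 1
        · exact ⟨1, A.one_mem, by rw [e', hc1, one_mul]⟩
        · exfalso
          obtain ⟨m, hm, e2⟩ := hS g hg (b * b₀) (A.mul_mem hb hb₀)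
          have e3 : g * f (b * b₀) * g⁻¹ = d * f (c * d) := by
            rw [hf.mul h hb hb₀, hf.mul h hc hd]
            calc g * (f b * f b₀) * g⁻¹ = (g * f b * g⁻¹) * (g * f b₀ * g⁻¹) := by group
              _ = f c * (d * f d) := by rw [e', e]
              _ = (f c * d) * f d := by group
              _ = _ := by rw [← hf.Acomm h hd hc]; group
          rw [e3] at e2
          have hcd := A.mul_mem hc hd
          rcases e2 with e2 | e2
          · exact hd1 (hf.rep_inj h hd hcd A.one_mem hm (by rw [e2, one_mul])).1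
          · obtain ⟨k1, k2⟩ := hf.rep_inj h hd hcd hm hm e2
            apply hc1
            rw [← k1] at k2
            exact mul_eq_right.1 k2
      · exact ⟨c, hc, e'⟩
  have htt : act t (act t (hf.A₁ h)) = hf.A₁ h := by rw [← act_mul, h.tt, act_one]
  set B₁ := hf.A₁ h with hB₁
  set B₂ := act t B₁ with hB₂
  have htwo : ∀ g ∈ centralizer ({z} : Set G), (act g B₁ = B₁ ∧ act g B₂ = B₂) ∨
      (act g B₁ = B₂ ∧ act g B₂ = B₁) := by
    intro g hg
    have h2 := hone (g * t) (mul_mem hg h.tH)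
    rw [act_mul] at h2
    rcases hone g hg with e1 | e1
    · left
      refine ⟨e1, ?_⟩
      rcases h2 with e2 | e2
      · exfalso
        apply hne
        have e3 := act_inv e1
        have e4 := act_inv e2
        exact e4.symm.trans e3
      · exact e2
    · right
      refine ⟨e1, ?_⟩
      rcases h2 with e2 | e2
      · exact e2
      · exfalso
        apply hne
        have e3 := act_inv e1
        have e4 := act_inv e2
        exact e4.symm.trans e3
  have hcomm : ⁅centralizer ({z} : Set G), centralizer ({z} : Set G)⁆ ≤ normalizer (B₁ : Set G) := by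
    rw [commutator_le]
    intro g₁ hg₁ g₂ hg₂
    rw [mem_normalizer_iff_map_conj_eq]
    show act ⁅g₁, g₂⁆ B₁ = B₁
    rw [commutatorElement_def, act_mul, act_mul, act_mul]
    rcases htwo g₁ hg₁ with ⟨a1, a2⟩ | ⟨a1, a2⟩ <;> rcases htwo g₂ hg₂ with ⟨c1, c2⟩ | ⟨c1, c2⟩
    · rw [act_inv c1, act_inv a1, c1, a1]
    · rw [act_inv c2, act_inv a2, c2, a1]
    · rw [act_inv c1, act_inv a2, c2, a2]
    · rw [act_inv c2, act_inv a1, c1, a2]
  have h3 := hcomm h.comm
  rw [mem_normalizer_iff_map_conj_eq] at h3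
  exact hne h3

theorem H_le_M [Finite G] (hf : Fn t z K f) (h : Hyp t z K A F₀) :
    centralizer ({z} : Set G) ≤ normalizer (hf.J₁ h : Set G) := by
  have h1 := h.FN
  have h2 := hf.F_eq h
  rw [h2] at h1
  exact h1

/-- **Result of this part**: `N_G(J₁)` is transitive on `J₁#`. -/
theorem trans [Finite G] (hf : Fn t z K f) (h : Hyp t z K A F₀) :
    ∀ x ∈ hf.J₁ h, x ≠ 1 → ∃ m ∈ normalizer (hf.J₁ h : Set G), m * z * m⁻¹ = x := by
  have hK := h.toKFacts
  set M := normalizer (hf.J₁ h : Set G) with hM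
  let L : G → Prop := fun x => ∃ m ∈ M, m * z * m⁻¹ = x
  show ∀ x ∈ hf.J₁ h, x ≠ 1 → L x
  have hHM := hf.H_le_M h
  have L_conj : ∀ m ∈ M, ∀ x, L x → L (m * x * m⁻¹) := by
    rintro m hm x ⟨n, hn, rfl⟩
    exact ⟨m * n, mul_mem hm hn, by group⟩
  have L_back : ∀ m ∈ M, ∀ x, L (m * x * m⁻¹) → L x := by
    intro m hm x hx
    have := L_conj m⁻¹ (inv_mem hm) _ hx
    have e : m⁻¹ * (m * x * m⁻¹) * m⁻¹⁻¹ = x := by group
    rwa [e] at this
  have L_A : ∀ a ∈ A, a ≠ 1 → L a := by
    intro a ha ha1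
    obtain ⟨n, hn, hnA, e⟩ := hK.exists_conj ha ha1
    exact ⟨n, hf.norJ₁ h hn hnA, e⟩
  have L_f : ∀ b ∈ A, b ≠ 1 → ∀ b' ∈ A, b' ≠ 1 → L (f b) → L (f b') := by
    intro b hb hb1 b' hb' hb1' hL
    obtain ⟨n, hn, hnA, e⟩ := hK.exists_conj hb hb1
    obtain ⟨n', hn', hnA', e'⟩ := hK.exists_conj hb' hb1'
    have e2 : f b' = (n' * n⁻¹) * f b * (n' * n⁻¹)⁻¹ := by
      rw [← hf.conj _ (K.mul_mem hn' (K.inv_mem hn)), ← e, ← e']
      congr 1
      group
    rw [e2]
    exact L_conj _ (mul_mem (hf.norJ₁ h hn' hnA') (inv_mem (hf.norJ₁ h hn hnA))) _ hL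
  have L_t : ∀ b ∈ A, L (b * f b) → L (f b) := by
    intro b hb hL
    apply L_back t (hf.t_norJ₁ h)
    rw [h.t_inv, hf.t_conj h hb, ← hf.Acomm h hb hb]
    exact hL
  have L_t' : ∀ b ∈ A, L (f b) → L (b * f b) := by
    intro b hb hL
    have := L_conj t (hf.t_norJ₁ h) _ hL
    rwa [h.t_inv, hf.t_conj h hb, ← hf.Acomm h hb hb] at this
  have L_pair : ∀ a ∈ A, ∀ b ∈ A, ∀ a' ∈ A, ∀ b' ∈ A, a ≠ 1 → b ≠ 1 → a ≠ b → a' ≠ 1 → b' ≠ 1 →
      a' ≠ b' → L (a * f b) → L (a' * f b') := by
    intro a ha b hb a' ha' b' hb' h1 h2 h3 h4 h5 h6 hL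
    obtain ⟨n, hn, hnA, e1, e2⟩ := h.two a ha b hb a' ha' b' hb' h1 h2 h3 h4 h5 h6
    have := L_conj n (hf.norJ₁ h hn hnA) _ hL
    have e : n * (a * f b) * n⁻¹ = a' * f b' := by
      rw [← e2, hf.conj n hn, ← e1]; group
    rwa [e] at this
  by_cases p1 : L (f z)
  · by_cases p2 : ∃ a ∈ A, ∃ b ∈ A, a ≠ 1 ∧ b ≠ 1 ∧ a ≠ b ∧ L (a * f b)
    · -- transitive
      obtain ⟨a₀, ha₀, b₀, hb₀, k1, k2, k3, hL₀⟩ := p2
      rintro x ⟨a, ha, b, hb, rfl⟩ hx1
      by_cases hb1 : b = 1
      · rw [hb1, hf.one, mul_one] at hx1 ⊢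
        exact L_A a ha hx1
      by_cases ha1 : a = 1
      · rw [ha1, one_mul]
        exact L_f z h.zA h.z1 b hb hb1 p1
      by_cases hab : a = b
      · rw [hab]
        exact L_t' b hb (L_f z h.zA h.z1 b hb hb1 p1)
      · exact L_pair a₀ ha₀ b₀ hb₀ a ha b hb k1 k2 k3 ha1 hb1 hab hL₀
    · exfalso
      push Not at p2
      -- elements `x ∈ J₁` with `x, zx ∈ Λ`
      have hΘ : ∀ x ∈ hf.J₁ h, L x → L (z * x) → x ∈ A ∨ x = f z ∨ x = z * f z := by
        rintro x ⟨a, ha, b, hb, rfl⟩ hx1 hx2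
        by_cases hb1 : b = 1
        · left; rw [hb1, hf.one, mul_one]; exact ha
        right
        by_cases ha1 : a = 1
        · left
          rw [ha1, one_mul] at hx2 ⊢
          by_cases hbz : b = z
          · rw [hbz]
          · exact absurd hx2 (p2 z h.zA b hb h.z1 hb1 (Ne.symm hbz))
        · right
          by_cases hab : a = b
          · rw [hab] at hx2 ⊢
            by_cases hbz : b = z
            · rw [hbz]
            · exfalso
              have hzb1 : z * b ≠ 1 := by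
                intro e
                apply hbz
                have := eq_inv_of_mul_eq_one_right e
                rw [this, hK.inv h.zA]
              have hzbb : z * b ≠ b := fun e => h.z1 (mul_eq_right.1 e)
              rw [← mul_assoc] at hx2
              exact p2 (z * b) (A.mul_mem h.zA hb) b hb hzb1 hb1 hzbb hx2
          · exact absurd hx1 (p2 a ha b hb ha1 hb1 hab)
      obtain ⟨k, v₁, v₂, b₃, w₁, w₂, c, h', hc⟩ := h.cfg
      -- an element `w ∈ {w₁, w₂}`, `w ∉ {1, z}`
      obtain ⟨w, hw, hwv, hw1⟩ : ∃ w ∈ A, w * v₁ = v₁ * w ∧ ¬ (w = 1 ∨ w = z) := by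
        by_cases e : w₁ = z
        · refine ⟨w₂, hc.w₂A, hc.w₂v₁, ?_⟩
          rintro (e1 | e1)
          · exact hc.w₂1 e1
          · exact hc.ne (e.trans e1.symm)
        · refine ⟨w₁, hc.w₁A, hc.w₁v₁ hK, ?_⟩
          rintro (e1 | e1)
          · exact hc.w₁1 e1
          · exact e e1
      -- a partner
      have partner : ∀ a ∈ A, ¬ (a = 1 ∨ a = z) → ∃ a' ∈ A, ¬ (a' = 1 ∨ a' = z) ∧
          ¬ (a * a' = 1 ∨ a * a' = z) := by
        intro a ha ha1
        by_cases e : a * w = 1 ∨ a * w = z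
        · refine ⟨b₃, hc.bA, hc.b_ne, ?_⟩
          intro e2
          apply hc.bv_ne
          have hav : a * v₁ = v₁ * a := by
            have ea : a = (a * w) * w := by rw [mul_assoc, h.sq w hw, mul_one]
            have hawv : (a * w) * v₁ = v₁ * (a * w) := by
              rcases e with e | e
              · rw [e]; group
              · rw [e]; exact hc.v₁z.symm
            rw [ea]
            calc a * w * w * v₁ = a * w * (w * v₁) := by group
              _ = (a * w * v₁) * w := by rw [hwv]; group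
              _ = _ := by rw [hawv]; group
          have hbv : (a * b₃) * v₁ = v₁ * (a * b₃) := by
            rcases e2 with e | e
            · rw [e]; group
            · rw [e]; exact hc.v₁z.symm
          have eb : b₃ = a * (a * b₃) := by rw [← mul_assoc, h.sq a ha, one_mul]
          rw [eb]
          calc a * (a * b₃) * v₁ = a * ((a * b₃) * v₁) := by group
            _ = (a * v₁) * (a * b₃) := by rw [hbv]; group
            _ = _ := by rw [hav]; group
        · exact ⟨w, hw, hw1, e⟩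
      have conj_ne : ∀ g ∈ centralizer ({z} : Set G), ∀ a : G, ¬ (a = 1 ∨ a = z) →
          ¬ (g * a * g⁻¹ = 1 ∨ g * a * g⁻¹ = z) := by
        rintro g hg a ha (e | e)
        · apply ha; left
          calc a = g⁻¹ * (g * a * g⁻¹) * g := by group
            _ = 1 := by rw [e]; group
        · apply ha; right
          calc a = g⁻¹ * (g * a * g⁻¹) * g := by group
            _ = g⁻¹ * (z * g) := by rw [e]; group
            _ = g⁻¹ * (g * z) := by rw [mem_cz.1 hg]
            _ = z := by group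
      -- `H` normalises `A`
      have hHA : ∀ g ∈ centralizer ({z} : Set G), ∀ a ∈ A, g * a * g⁻¹ ∈ A := by
        intro g hg a ha
        have hgJ := mem_normalizer_iff.1 (hHM hg)
        by_cases ha1 : a = 1 ∨ a = z
        · rcases ha1 with rfl | rfl
          · have : g * 1 * g⁻¹ = 1 := by group
            rw [this]; exact A.one_mem
          · rw [mem_cz.1 hg]
            have : a * g * g⁻¹ = a := by group
            rw [this]; exact ha
        -- the type of `g x g⁻¹` for `x ∈ A - {1, z}`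
        have typ : ∀ x ∈ A, ¬ (x = 1 ∨ x = z) →
            g * x * g⁻¹ ∈ A ∨ g * x * g⁻¹ = f z ∨ g * x * g⁻¹ = z * f z := by
          intro x hx hx1
          apply hΘ _ ((hgJ x).1 (hf.A_le_J₁ h hx))
          · exact L_conj g (hHM hg) x (L_A x hx (fun e => hx1 (Or.inl e)))
          · have e : z * (g * x * g⁻¹) = g * (z * x) * g⁻¹ := by
              calc z * (g * x * g⁻¹) = (z * g) * x * g⁻¹ := by group
                _ = (g * z) * x * g⁻¹ := by rw [mem_cz.1 hg]
                _ = _ := by group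
            rw [e]
            refine L_conj g (hHM hg) _ (L_A _ (A.mul_mem h.zA hx) ?_)
            intro e
            apply hx1; right
            have := eq_inv_of_mul_eq_one_right e
            rw [this, hK.inv h.zA]
        obtain ⟨a', ha', ha1', haa'⟩ := partner a ha ha1
        have t1 := typ a ha ha1
        have t2 := typ a' ha' ha1'
        have t3 := typ _ (A.mul_mem ha ha') haa'
        have n2 := conj_ne g hg a' ha1'
        have n3 := conj_ne g hg _ haa'
        have e12 : g * (a * a') * g⁻¹ = (g * a * g⁻¹) * (g * a' * g⁻¹) := by group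
        rw [e12] at t3 n3
        rcases t1 with h1 | h1
        · exact h1
        exfalso
        -- `g a g⁻¹ = e₁ f(z)`, `e₁ ∈ {1, z}`
        obtain ⟨e₁, he₁, he₁A, hx⟩ : ∃ e₁, (e₁ = 1 ∨ e₁ = z) ∧ e₁ ∈ A ∧ g * a * g⁻¹ = e₁ * f z := by
          rcases h1 with h1 | h1
          · exact ⟨1, Or.inl rfl, A.one_mem, by rw [h1, one_mul]⟩
          · exact ⟨z, Or.inr rfl, h.zA, h1⟩
        have hmul2 : ∀ e e' : G, (e = 1 ∨ e = z) → (e' = 1 ∨ e' = z) → (e * e' = 1 ∨ e * e' = z) := by
          rintro e e' (rfl | rfl) (rfl | rfl)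
          · left; group
          · right; group
          · right; group
          · left; exact h.zz
        rcases t2 with h2 | h2
        · -- `x' ∈ A`
          have e3 : (g * a * g⁻¹) * (g * a' * g⁻¹) = (e₁ * (g * a' * g⁻¹)) * f z := by
            rw [hx]
            calc e₁ * f z * (g * a' * g⁻¹) = e₁ * (f z * (g * a' * g⁻¹)) := by group
              _ = e₁ * ((g * a' * g⁻¹) * f z) := by rw [hf.Acomm h h2 h.zA]
              _ = _ := by group
          rw [e3] at t3
          have hA2 := A.mul_mem he₁A h2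
          rcases t3 with t3 | t3 | t3
          · exact h.z1 (hf.rep_mem_A h hA2 h.zA t3)
          · have := (hf.rep_inj h hA2 h.zA A.one_mem h.zA (by rw [t3, one_mul])).1
            apply n2
            have e4 : g * a' * g⁻¹ = e₁ * (e₁ * (g * a' * g⁻¹)) := by
              rw [← mul_assoc, h.sq _ he₁A, one_mul]
            rw [e4, this]
            exact hmul2 _ _ he₁ (Or.inl rfl)
          · have := (hf.rep_inj h hA2 h.zA h.zA h.zA t3).1
            apply n2
            have e4 : g * a' * g⁻¹ = e₁ * (e₁ * (g * a' * g⁻¹)) := by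
              rw [← mul_assoc, h.sq _ he₁A, one_mul]
            rw [e4, this]
            exact hmul2 _ _ he₁ (Or.inr rfl)
        · obtain ⟨e₂, he₂, he₂A, hx'⟩ : ∃ e₂, (e₂ = 1 ∨ e₂ = z) ∧ e₂ ∈ A ∧
              g * a' * g⁻¹ = e₂ * f z := by
            rcases h2 with h1 | h1
            · exact ⟨1, Or.inl rfl, A.one_mem, by rw [h1, one_mul]⟩
            · exact ⟨z, Or.inr rfl, h.zA, h1⟩
          apply n3
          rw [hx, hx']
          have : e₁ * f z * (e₂ * f z) = e₁ * e₂ := by
            calc e₁ * f z * (e₂ * f z) = e₁ * (f z * e₂) * f z := by group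
              _ = e₁ * (e₂ * f z) * f z := by rw [hf.Acomm h he₂A h.zA]
              _ = e₁ * e₂ * (f z * f z) := by group
              _ = e₁ * e₂ := by rw [hf.sq, mul_one]
          rw [this]
          exact hmul2 _ _ he₁ he₂
      apply hf.perm_false h
      intro g hg b hb
      have hgJ := mem_normalizer_iff.1 (hHM hg)
      by_cases hb1 : b = 1
      · refine ⟨1, A.one_mem, Or.inl ?_⟩
        rw [hb1, hf.one]; group
      have hL : L (f b) := L_f z h.zA h.z1 b hb hb1 p1
      have hL' := L_conj g (hHM hg) _ hL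
      obtain ⟨a, ha, b', hb', e⟩ := (hgJ (f b)).1 (hf.f_mem_J₁ h hb)
      rw [e] at hL' ⊢
      by_cases hb1' : b' = 1
      · exfalso
        -- then `g f(b) g⁻¹ ∈ A`
        have h1 : g⁻¹ * a * g⁻¹⁻¹ ∈ A := hHA g⁻¹ (inv_mem hg) a ha
        have h2 : g⁻¹ * a * g⁻¹⁻¹ = f b := by
          rw [hb1', hf.one, mul_one] at e
          rw [← e]; group
        rw [h2] at h1
        have := hf.rep_mem_A h A.one_mem hb (by rw [one_mul]; exact h1)
        exact hb1 this
      by_cases ha1 : a = 1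
      · exact ⟨b', hb', Or.inl (by rw [ha1, one_mul])⟩
      by_cases hab : a = b'
      · exact ⟨b', hb', Or.inr (by rw [hab])⟩
      · exact absurd hL' (p2 a ha b' hb' ha1 hb1' hab)
  · exfalso
    have hnf : ∀ b ∈ A, b ≠ 1 → ¬ L (f b) := fun b hb hb1 hL =>
      p1 (L_f b hb hb1 z h.zA h.z1 hL)
    have hnf' : ∀ b ∈ A, b ≠ 1 → ¬ L (b * f b) := fun b hb hb1 hL => hnf b hb hb1 (L_t b hb hL)
    by_cases p2 : ∃ a ∈ A, ∃ b ∈ A, a ≠ 1 ∧ b ≠ 1 ∧ a ≠ b ∧ L (a * f b)
    · obtain ⟨a₀, ha₀, b₀, hb₀, k1, k2, k3, hL₀⟩ := p2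
      apply hf.perm_false h
      intro g hg b hb
      have hgJ := mem_normalizer_iff.1 (hHM hg)
      by_cases hb1 : b = 1
      · refine ⟨1, A.one_mem, Or.inl ?_⟩
        rw [hb1, hf.one]; group
      have hL : ¬ L (g * f b * g⁻¹) := fun hL => hnf b hb hb1 (L_back g (hHM hg) _ hL)
      have hne1 : g * f b * g⁻¹ ≠ 1 := by
        intro e
        apply hf.f_ne_one h hb hb1
        calc f b = g⁻¹ * (g * f b * g⁻¹) * g := by group
          _ = 1 := by rw [e]; group
      obtain ⟨a, ha, b', hb', e⟩ := (hgJ (f b)).1 (hf.f_mem_J₁ h hb)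
      rw [e] at hL hne1 ⊢
      by_cases hb1' : b' = 1
      · rw [hb1', hf.one, mul_one] at hL hne1
        exact absurd (L_A a ha hne1) hL
      by_cases ha1 : a = 1
      · exact ⟨b', hb', Or.inl (by rw [ha1, one_mul])⟩
      by_cases hab : a = b'
      · exact ⟨b', hb', Or.inr (by rw [hab])⟩
      · exact absurd (L_pair a₀ ha₀ b₀ hb₀ a ha b' hb' k1 k2 k3 ha1 hb1' hab hL₀) hL
    · push Not at p2
      -- `Λ = A#`
      have hHA : centralizer ({z} : Set G) ≤ normalizer (A : Set G) := by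
        intro g hg
        apply mem_normalizer_of_le
        intro a ha
        by_cases ha1 : a = 1
        · rw [ha1]
          have : g * 1 * g⁻¹ = 1 := by group
          rw [this]; exact A.one_mem
        have hL := L_conj g (hHM hg) a (L_A a ha ha1)
        obtain ⟨c, hc, d, hd, e⟩ := (mem_normalizer_iff.1 (hHM hg) a).1 (hf.A_le_J₁ h ha)
        rw [e] at hL ⊢
        by_cases hd1 : d = 1
        · rw [hd1, hf.one, mul_one]; exact hc
        exfalso
        by_cases hc1 : c = 1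
        · rw [hc1, one_mul] at hL
          exact hnf d hd hd1 hL
        by_cases hcd : c = d
        · rw [hcd] at hL
          exact hnf' d hd hd1 hL
        · exact p2 c hc d hd hc1 hd1 hcd hL
      have htF : t ∈ F₀ := by
        refine h.mem_F_of_two_step hHA h.tH (fun a ha => h.tA ha) ?_
        intro x hx
        rw [hf.F_eq h] at hx
        obtain ⟨a, ha, b, hb, rfl⟩ := hx
        have h1 := hf.comm_t h ha hb
        have e : t * (a * f b) * t⁻¹ * (a * f b)⁻¹ = b := by
          calc t * (a * f b) * t⁻¹ * (a * f b)⁻¹ = t * (a * f b * t) * (a * f b)⁻¹ := by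
                rw [h.t_inv]; group
            _ = t * (t * b * (a * f b)) * (a * f b)⁻¹ := by rw [h1]
            _ = (t * t) * b := by group
            _ = b := by rw [h.tt, one_mul]
        rw [e]; exact hb
      exact hf.t_not_mem h htF

end Fn

end Cfsg.Agent.OddHalf.M23
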