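import Cfsg.Agent.OddHalf.M23.Lem

/-!
# ODD half, D8, `K = M23`: the hypotheses (helper136)

`KFacts K A z`: the facts about `K = M23`; `z` an involution, `P = C_K(z) = 2^4:L3(2)`, `A = O_2(P)`.
`Hyp t z K A F₀`: `C_G(t) = ⟨t⟩ × K`, `t ~ tz` in `C_G(z)`, `t ∈ C_G(z)'`, `F₀ = O_2(C_G(z)) = F*(C_G(z))`.

First consequence (`exists_y`): an involution `y` centralising `P` with `t^y = tz`.
-/

set_option autoImplicit false

open scoped commutatorElement

namespace Cfsg.Agent.OddHalf.M23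

open Subgroup

variable {G : Type*} [Group G]

/-- `C_K(z)` -/
abbrev PP (K : Subgroup G) (z : G) : Subgroup G := K ⊓ centralizer ({z} : Set G)

/-- the configuration of a four-group `⟨v₁, v₂⟩ ≤ A^k ∩ C_K(z)` -/
structure Cfg (K A : Subgroup G) (z k v₁ v₂ b w₁ w₂ c h : G) : Prop where
  kK : k ∈ K
  v₁A : k⁻¹ * v₁ * k ∈ A
  v₂A : k⁻¹ * v₂ * k ∈ A
  v₁z : v₁ * z = z * v₁
  v₂z : v₂ * z = z * v₂
  bA : b ∈ A
  w₁1 : w₁ ≠ 1
  w₂1 : w₂ ≠ 1
  ne : w₁ ≠ w₂
  bv₁ : b * v₁ * b⁻¹ * v₁⁻¹ = w₁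
  bv₂ : b * v₂ * b⁻¹ * v₂⁻¹ = w₂
  w₁A : w₁ ∈ A
  w₂A : w₂ ∈ A
  w₂v₁ : w₂ * v₁ = v₁ * w₂
  cenv : ∀ a ∈ A, a * v₁ = v₁ * a → a = 1 ∨ a = w₁ ∨ a = w₂ ∨ a = w₁ * w₂
  cK : c ∈ K
  cA : c ∈ normalizer (A : Set G)
  cv₁ : c * v₁ = v₁ * c
  cv₂ : c * v₂ = v₂ * c
  cw₁ : c * w₁ * c⁻¹ = w₂
  cw₂ : c * w₂ * c⁻¹ = w₁ * w₂
  hK : h ∈ K
  hA : h ∈ normalizer (A : Set G)
  hv₁ : h * v₁ = v₁ * h
  hb : (h * b * h⁻¹ * b⁻¹) * v₁ = v₁ * (h * b * h⁻¹ * b⁻¹)
  hw₂ : h * w₂ * h⁻¹ = w₁ * w₂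

/-- the facts about `K = M23` -/
structure KFacts (K A : Subgroup G) (z : G) : Prop where
  zz : z * z = 1
  z1 : z ≠ 1
  zA : z ∈ A
  AK : A ≤ K
  sq : ∀ a ∈ A, a * a = 1
  perf : ⁅PP K z, PP K z⁆ = PP K z
  cenA : ∀ k ∈ K, (∀ a ∈ A, k * a = a * k) → k ∈ A
  norA : PP K z ≤ normalizer (A : Set G)
  core : ∀ Q ≤ PP K z, IsPGroup 2 Q → PP K z ≤ normalizer (Q : Set G) → Q ≤ A
  sub : ∀ B ≤ A, PP K z ≤ normalizer (B : Set G) → (∀ b ∈ B, b = 1 ∨ b = z) ∨ A ≤ B
  inner : ∀ φ : PP K z ≃* PP K z, ∃ p : PP K z, ∀ u : PP K z, φ u = p * u * p⁻¹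
  two : ∀ a ∈ A, ∀ b ∈ A, ∀ a' ∈ A, ∀ b' ∈ A, a ≠ 1 → b ≠ 1 → a ≠ b → a' ≠ 1 → b' ≠ 1 → a' ≠ b' →
    ∃ n ∈ K, n ∈ normalizer (A : Set G) ∧ n * a * n⁻¹ = a' ∧ n * b * n⁻¹ = b'
  line : ∃ a ∈ A, ∃ b ∈ A, a ≠ 1 ∧ b ≠ 1 ∧ a ≠ b ∧ ∀ c ∈ A,
    (∀ k ∈ K, k * a = a * k → k * b = b * k → k * c = c * k) → c = 1 ∨ c = a ∨ c = b ∨ c = a * b
  cfg : ∃ k v₁ v₂ b w₁ w₂ c h : G, Cfg K A z k v₁ v₂ b w₁ w₂ c h

/-- the situation `C_G(t) = ⟨t⟩ × K`, `F*(C_G(z)) = F₀` a 2-group -/
structure Hyp (t z : G) (K A F₀ : Subgroup G) : Prop extends KFacts K A z where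
  tt : t * t = 1
  tK : t ∉ K
  Kt : ∀ k ∈ K, k * t = t * k
  cen : ∀ g : G, g * t = t * g → g ∈ K ∨ t * g ∈ K
  swap : ∃ x : G, x * t * x⁻¹ = t * z ∧ x * z * x⁻¹ = z
  comm : t ∈ ⁅centralizer ({z} : Set G), centralizer ({z} : Set G)⁆
  F2 : IsPGroup 2 F₀
  Fz : F₀ ≤ centralizer ({z} : Set G)
  FN : centralizer ({z} : Set G) ≤ normalizer (F₀ : Set G)
  Fmax : ∀ N ≤ centralizer ({z} : Set G), IsPGroup 2 N →
    centralizer ({z} : Set G) ≤ normalizer (N : Set G) → N ≤ F₀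
  Fcen : ∀ x ∈ centralizer ({z} : Set G), (∀ y ∈ F₀, x * y = y * x) → x ∈ F₀

theorem mem_cz {z g : G} : g ∈ centralizer ({z} : Set G) ↔ g * z = z * g :=
  mem_centralizer_singleton_iff

theorem conj_eq_iff {x a b : G} : x * a * x⁻¹ = b ↔ x * a = b * x := by
  constructor
  · intro h; rw [← h]; group
  · intro h; rw [h]; group

namespace KFacts

variable {K A : Subgroup G} {z : G}

theorem comm (h : KFacts K A z) {a b : G} (ha : a ∈ A) (hb : b ∈ A) : a * b = b * a := by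
  have h1 := h.sq _ (A.mul_mem ha hb)
  have h2 := h.sq a ha
  have h3 := h.sq b hb
  have e1 : a⁻¹ = a := inv_eq_of_mul_eq_one_left h2
  have e2 : b⁻¹ = b := inv_eq_of_mul_eq_one_left h3
  have e3 : (a * b)⁻¹ = a * b := inv_eq_of_mul_eq_one_left h1
  rw [← e3, mul_inv_rev, e1, e2]

theorem inv (h : KFacts K A z) {a : G} (ha : a ∈ A) : a⁻¹ = a :=
  inv_eq_of_mul_eq_one_left (h.sq a ha)

theorem A_le_P (h : KFacts K A z) : A ≤ PP K z := fun _ ha =>
  ⟨h.AK ha, mem_cz.2 (h.comm ha h.zA)⟩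

theorem zP (h : KFacts K A z) : z ∈ PP K z := h.A_le_P h.zA

/-- every nontrivial element of `A` is conjugate to `z` -/
theorem exists_conj (h : KFacts K A z) {a : G} (ha : a ∈ A) (ha1 : a ≠ 1) :
    ∃ n ∈ K, n ∈ normalizer (A : Set G) ∧ n * z * n⁻¹ = a := by
  by_cases e : a = z
  · exact ⟨1, K.one_mem, one_mem _, by rw [e]; group⟩
  · obtain ⟨n, hn, hnA, h1, -⟩ := h.two z h.zA a ha a ha z h.zA h.z1 ha1 (Ne.symm e) ha1 h.z1 e
    exact ⟨n, hn, hnA, h1⟩

theorem line' (h : KFacts K A z) {a b : G} (ha : a ∈ A) (hb : b ∈ A) (ha1 : a ≠ 1) (hb1 : b ≠ 1)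
    (hab : a ≠ b) {c : G} (hc : c ∈ A)
    (hk : ∀ k ∈ K, k * a = a * k → k * b = b * k → k * c = c * k) :
    c = 1 ∨ c = a ∨ c = b ∨ c = a * b := by
  obtain ⟨a₀, ha₀, b₀, hb₀, ha1', hb1', hab', hl⟩ := h.line
  obtain ⟨n, hnK, hnA, hna, hnb⟩ := h.two a₀ ha₀ b₀ hb₀ a ha b hb ha1' hb1' hab' ha1 hb1 hab
  have hnA' := mem_normalizer_iff.1 hnA
  have hc' : n⁻¹ * c * n ∈ A := by
    rw [hnA']
    have e : n * (n⁻¹ * c * n) * n⁻¹ = c := by group
    rw [e]; exact hc
  have key := hl (n⁻¹ * c * n) hc' (by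
    intro k hkK hka hkb
    have h1 := hk (n * k * n⁻¹) (K.mul_mem (K.mul_mem hnK hkK) (K.inv_mem hnK))
      (by
        rw [← hna]
        calc n * k * n⁻¹ * (n * a₀ * n⁻¹) = n * (k * a₀) * n⁻¹ := by group
          _ = n * (a₀ * k) * n⁻¹ := by rw [hka]
          _ = _ := by group)
      (by
        rw [← hnb]
        calc n * k * n⁻¹ * (n * b₀ * n⁻¹) = n * (k * b₀) * n⁻¹ := by group
          _ = n * (b₀ * k) * n⁻¹ := by rw [hkb]
          _ = _ := by group)
    calc k * (n⁻¹ * c * n) = n⁻¹ * (n * k * n⁻¹ * c) * n := by group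
      _ = n⁻¹ * (c * (n * k * n⁻¹)) * n := by rw [h1]
      _ = _ := by group)
  have back : ∀ d, n⁻¹ * c * n = d → c = n * d * n⁻¹ := by
    intro d hd
    rw [← hd]; group
  rcases key with e | e | e | e
  · left; rw [back _ e]; group
  · right; left; rw [back _ e, hna]
  · right; right; left; rw [back _ e, hnb]
  · right; right; right
    rw [back _ e, ← hna, ← hnb]; group

end KFacts

namespace Hyp

variable {t z : G} {K A F₀ : Subgroup G}

theorem t_inv (h : Hyp t z K A F₀) : t⁻¹ = t := inv_eq_of_mul_eq_one_left h.tt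

theorem tz (h : Hyp t z K A F₀) : t * z = z * t := (h.Kt z (h.AK h.zA)).symm

theorem tA (h : Hyp t z K A F₀) {a : G} (ha : a ∈ A) : t * a = a * t := (h.Kt a (h.AK ha)).symm

theorem tH (h : Hyp t z K A F₀) : t ∈ centralizer ({z} : Set G) := mem_cz.2 h.tz

/-- `t`-part and `K`-part -/
theorem cen' (h : Hyp t z K A F₀) {g : G} (hg : g * t = t * g) :
    ∃ k ∈ K, g = k ∨ g = t * k := by
  rcases h.cen g hg with h1 | h1
  · exact ⟨g, h1, Or.inl rfl⟩
  · exact ⟨t * g, h1, Or.inr (by rw [← mul_assoc, h.tt, one_mul])⟩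

theorem P_comm (h : Hyp t z K A F₀) :
    ⁅centralizer ({t} : Set G) ⊓ centralizer ({z} : Set G),
      centralizer ({t} : Set G) ⊓ centralizer ({z} : Set G)⁆ = PP K z := by
  apply le_antisymm
  · rw [commutator_le]
    rintro g₁ ⟨hg₁, hz₁⟩ g₂ ⟨hg₂, hz₂⟩
    obtain ⟨k₁, hk₁, e₁⟩ := h.cen' (mem_cz.1 hg₁)
    obtain ⟨k₂, hk₂, e₂⟩ := h.cen' (mem_cz.1 hg₂)
    have e : ⁅g₁, g₂⁆ = ⁅k₁, k₂⁆ := by
      have c1 := h.Kt k₁ hk₁
      have c2 := h.Kt k₂ hk₂
      have f1 : k₁⁻¹ * t = t * k₁⁻¹ := h.Kt _ (K.inv_mem hk₁)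
      have f2 : k₂⁻¹ * t = t * k₂⁻¹ := h.Kt _ (K.inv_mem hk₂)
      have ti := h.t_inv
      have tt := h.tt
      have red1 : ∀ k k' : G, k * t = t * k → k' * t = t * k' → ⁅t * k, k'⁆ = ⁅k, k'⁆ := by
        intro k k' hk hk'
        have hk'' : k'⁻¹ * t = t * k'⁻¹ := by
          calc k'⁻¹ * t = k'⁻¹ * (t * k') * k'⁻¹ := by group
            _ = k'⁻¹ * (k' * t) * k'⁻¹ := by rw [hk']
            _ = t * k'⁻¹ := by group
        rw [commutatorElement_def, commutatorElement_def, mul_inv_rev, ti]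
        calc t * k * k' * (k⁻¹ * t) * k'⁻¹ = t * (k * k' * k⁻¹) * (t * k'⁻¹) := by group
          _ = t * (k * k' * k⁻¹) * (k'⁻¹ * t) := by rw [hk'']
          _ = t * (k * (k' * (k⁻¹ * (k'⁻¹ * t)))) := by group
          _ = t * (k * (k' * (k⁻¹ * (t * k'⁻¹)))) := by rw [hk'']
          _ = k * k' * k⁻¹ * k'⁻¹ := by
            have hk3 : k⁻¹ * t = t * k⁻¹ := by
              calc k⁻¹ * t = k⁻¹ * (t * k) * k⁻¹ := by group
                _ = k⁻¹ * (k * t) * k⁻¹ := by rw [hk]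
                _ = t * k⁻¹ := by group
            calc t * (k * (k' * (k⁻¹ * (t * k'⁻¹)))) = t * k * k' * (k⁻¹ * t) * k'⁻¹ := by group
              _ = t * k * k' * (t * k⁻¹) * k'⁻¹ := by rw [hk3]
              _ = t * k * (k' * t) * k⁻¹ * k'⁻¹ := by group
              _ = t * k * (t * k') * k⁻¹ * k'⁻¹ := by rw [hk']
              _ = t * (k * t) * k' * k⁻¹ * k'⁻¹ := by group
              _ = t * (t * k) * k' * k⁻¹ * k'⁻¹ := by rw [hk]
              _ = (t * t) * (k * k' * k⁻¹ * k'⁻¹) := by group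
              _ = k * k' * k⁻¹ * k'⁻¹ := by rw [tt, one_mul]
      have red2 : ∀ k k' : G, k * t = t * k → k' * t = t * k' → ⁅k, t * k'⁆ = ⁅k, k'⁆ := by
        intro k k' hk hk'
        rw [← commutatorElement_inv (t * k') k, red1 k' k hk' hk, commutatorElement_inv]
      rcases e₁ with rfl | rfl <;> rcases e₂ with rfl | rfl
      · rfl
      · exact red2 _ _ c1 c2
      · exact red1 _ _ c1 c2
      · rw [red1 k₁ (t * k₂) c1 (by rw [mul_assoc, c2]), red2 _ _ c1 c2]
    refine ⟨?_, ?_⟩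
    · rw [e, commutatorElement_def]
      exact K.mul_mem (K.mul_mem (K.mul_mem hk₁ hk₂) (K.inv_mem hk₁)) (K.inv_mem hk₂)
    · show _ ∈ centralizer ({z} : Set G)
      rw [commutatorElement_def]
      exact mul_mem (mul_mem (mul_mem hz₁ hz₂) (inv_mem hz₁)) (inv_mem hz₂)
  · have h1 : PP K z ≤ centralizer ({t} : Set G) ⊓ centralizer ({z} : Set G) := by
      rintro p ⟨hp, hpz⟩
      exact ⟨mem_cz.2 (h.Kt p hp), hpz⟩
    calc PP K z = ⁅PP K z, PP K z⁆ := h.perf.symm
      _ ≤ _ := commutator_mono h1 h1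

/-- **the y-trick** (helper821) -/
theorem exists_y (h : Hyp t z K A F₀) :
    ∃ y : G, y * y = 1 ∧ (∀ p ∈ PP K z, y * p = p * y) ∧ y * t * y⁻¹ = t * z := by
  obtain ⟨x, hxt, hxz⟩ := h.swap
  -- `x` normalises `P`
  have hx1 : ∀ g : G, (g * t = t * g ∧ g * z = z * g) ↔
      (x * g * x⁻¹ * t = t * (x * g * x⁻¹) ∧ x * g * x⁻¹ * z = z * (x * g * x⁻¹)) := by
    intro g
    have ez : x * g * x⁻¹ * z = z * (x * g * x⁻¹) ↔ g * z = z * g := by
      nth_rewrite 1 [← hxz]
      nth_rewrite 2 [← hxz]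
      constructor
      · intro e
        have : x * (g * z) * x⁻¹ = x * (z * g) * x⁻¹ := by
          calc x * (g * z) * x⁻¹ = x * g * x⁻¹ * (x * z * x⁻¹) := by group
            _ = x * z * x⁻¹ * (x * g * x⁻¹) := e
            _ = _ := by group
        exact mul_left_cancel (mul_right_cancel this)
      · intro e
        calc x * g * x⁻¹ * (x * z * x⁻¹) = x * (g * z) * x⁻¹ := by group
          _ = x * (z * g) * x⁻¹ := by rw [e]
          _ = _ := by group
    have etz : x * g * x⁻¹ * (t * z) = t * z * (x * g * x⁻¹) ↔ g * t = t * g := by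
      rw [← hxt]
      constructor
      · intro e
        have : x * (g * t) * x⁻¹ = x * (t * g) * x⁻¹ := by
          calc x * (g * t) * x⁻¹ = x * g * x⁻¹ * (x * t * x⁻¹) := by group
            _ = x * t * x⁻¹ * (x * g * x⁻¹) := e
            _ = _ := by group
        exact mul_left_cancel (mul_right_cancel this)
      · intro e
        calc x * g * x⁻¹ * (x * t * x⁻¹) = x * (g * t) * x⁻¹ := by group
          _ = x * (t * g) * x⁻¹ := by rw [e]
          _ = _ := by group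
    constructor
    · rintro ⟨e1, e2⟩
      have f2 := ez.2 e2
      have f1 := etz.2 e1
      refine ⟨?_, f2⟩
      have : x * g * x⁻¹ * t * z = t * (x * g * x⁻¹) * z := by
        calc x * g * x⁻¹ * t * z = x * g * x⁻¹ * (t * z) := by group
          _ = t * z * (x * g * x⁻¹) := f1
          _ = t * (z * (x * g * x⁻¹)) := by group
          _ = t * (x * g * x⁻¹ * z) := by rw [f2]
          _ = _ := by group
      exact mul_right_cancel this
    · rintro ⟨e1, e2⟩
      refine ⟨etz.1 ?_, ez.1 e2⟩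
      calc x * g * x⁻¹ * (t * z) = x * g * x⁻¹ * t * z := by group
        _ = t * (x * g * x⁻¹) * z := by rw [e1]
        _ = t * (x * g * x⁻¹ * z) := by group
        _ = t * (z * (x * g * x⁻¹)) := by rw [e2]
        _ = _ := by group
  have hxN : x ∈ normalizer ((centralizer ({t} : Set G) ⊓ centralizer ({z} : Set G) : Subgroup G) :
      Set G) := by
    rw [mem_normalizer_iff]
    intro g
    show g ∈ centralizer ({t} : Set G) ∧ g ∈ centralizer ({z} : Set G) ↔
      x * g * x⁻¹ ∈ centralizer ({t} : Set G) ∧ x * g * x⁻¹ ∈ centralizer ({z} : Set G)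
    rw [mem_cz, mem_cz, mem_cz, mem_cz]
    exact hx1 g
  have hxP : x ∈ normalizer ((PP K z : Subgroup G) : Set G) := by
    rw [← h.P_comm]
    exact mem_normalizer_commutator hxN hxN
  obtain ⟨⟨p, hp⟩, hpx⟩ := h.inner ((PP K z).normalizerMonoidHom ⟨x, hxP⟩)
  have hpx' : ∀ u ∈ PP K z, x * u * x⁻¹ = p * u * p⁻¹ := by
    intro u hu
    have := congrArg Subtype.val (hpx ⟨u, hu⟩)
    exact this
  have hpt : p * t = t * p := h.Kt p hp.1
  have hpz : p * z = z * p := mem_cz.1 hp.2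
  set g := p⁻¹ * x with hg
  have hgP : ∀ u ∈ PP K z, g * u = u * g := by
    intro u hu
    have e := hpx' u hu
    calc p⁻¹ * x * u = p⁻¹ * (x * u * x⁻¹) * x := by group
      _ = p⁻¹ * (p * u * p⁻¹) * x := by rw [e]
      _ = u * (p⁻¹ * x) := by group
  have hgt : g * t * g⁻¹ = t * z := by
    calc g * t * g⁻¹ = p⁻¹ * (x * t * x⁻¹) * p := by rw [hg]; group
      _ = p⁻¹ * (t * z) * p := by rw [hxt]
      _ = p⁻¹ * (t * (z * p)) := by group
      _ = p⁻¹ * (t * (p * z)) := by rw [hpz]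
      _ = p⁻¹ * ((t * p) * z) := by group
      _ = p⁻¹ * ((p * t) * z) := by rw [hpt]
      _ = t * z := by group
  have hgz : g * z = z * g := hgP z h.zP
  have hg2t : g * g * t = t * (g * g) := by
    have e1 : g * t = t * z * g := by rw [← hgt]; group
    calc g * g * t = g * (g * t) := by group
      _ = g * (t * z * g) := by rw [e1]
      _ = (g * t) * z * g := by group
      _ = t * z * g * z * g := by rw [e1]
      _ = t * z * (g * z) * g := by group
      _ = t * z * (z * g) * g := by rw [hgz]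
      _ = t * (z * z) * (g * g) := by group
      _ = t * (g * g) := by rw [h.zz, mul_one]
  -- `g²` lies in `⟨t, z⟩`
  obtain ⟨k, hk, hgk⟩ := h.cen' hg2t
  have hkP : ∀ u ∈ PP K z, k * u = u * k := by
    intro u hu
    have e1 : g * g * u = u * (g * g) := by
      calc g * g * u = g * (g * u) := by group
        _ = g * (u * g) := by rw [hgP u hu]
        _ = (g * u) * g := by group
        _ = u * g * g := by rw [hgP u hu]
        _ = _ := by group
    rcases hgk with e | e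
    · rw [← e]; exact e1
    · have e2 : k = t * (g * g) := by rw [e, ← mul_assoc, h.tt, one_mul]
      rw [e2]
      calc t * (g * g) * u = t * (g * g * u) := by group
        _ = t * (u * (g * g)) := by rw [e1]
        _ = (t * u) * (g * g) := by group
        _ = (u * t) * (g * g) := by rw [h.Kt u hu.1]
        _ = _ := by group
  have hkA : k ∈ A := h.cenA k hk (fun a ha => hkP a (h.A_le_P ha))
  have hkz : k = 1 ∨ k = z := by
    -- `{1, k}` is a `P`-submodule
    have hB : zpowers k ≤ A := by rw [zpowers_le]; exact hkA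
    rcases h.sub (zpowers k) hB (by
      intro p hp
      apply mem_normalizer_of_comm
      intro y hy
      obtain ⟨i, rfl⟩ := mem_zpowers_iff.1 hy
      have : Commute k p := hkP p hp
      exact (this.zpow_left i).eq) with h1 | h1
    · exact h1 k (mem_zpowers k)
    · -- `A ≤ ⟨k⟩` is impossible
      exfalso
      obtain ⟨a, ha, b, hb, ha1, hb1, hab, -⟩ := h.line
      have hone : ∀ y ∈ zpowers k, y = 1 ∨ y = k := by
        intro y hy
        obtain ⟨i, rfl⟩ := mem_zpowers_iff.1 hy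
        have hkk : k ^ (2 : ℤ) = 1 := by rw [zpow_ofNat, pow_two]; exact h.sq k hkA
        rcases Int.even_or_odd' i with ⟨j, rfl | rfl⟩
        · left; rw [zpow_mul, hkk, one_zpow]
        · right; rw [zpow_add, zpow_mul, hkk, one_zpow, one_mul, zpow_one]
      have h2 := (hone a (h1 ha)).resolve_left ha1
      have h3 := (hone b (h1 hb)).resolve_left hb1
      exact hab (h2.trans h3.symm)
  -- `g²` is `1` or `z`
  have hg2 : g * g = 1 ∨ g * g = z := by
    have hne : ∀ c : G, c = 1 ∨ c = z → g * g ≠ t * c := by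
      intro c hc e
      have e1 : g * (t * c) = t * c * g := by
        rw [← e]; group
      have e2 : g * t = t * z * g := by rw [← hgt]; group
      have hcg : g * c = c * g := by
        rcases hc with rfl | rfl
        · group
        · exact hgz
      have e3 : t * z * c * g = t * c * g := by
        calc t * z * c * g = t * z * (c * g) := by group
          _ = t * z * (g * c) := by rw [hcg]
          _ = (t * z * g) * c := by group
          _ = g * t * c := by rw [e2]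
          _ = g * (t * c) := by group
          _ = t * c * g := e1
      have e4 : t * z * c = t * c := mul_right_cancel e3
      have e5 : t * z = t := mul_right_cancel e4
      exact h.z1 (mul_eq_left.1 e5)
    rcases hgk with e | e
    · rw [e]; exact hkz
    · exact absurd e (hne k hkz)
  rcases hg2 with e | e
  · exact ⟨g, e, hgP, hgt⟩
  · refine ⟨t * g, ?_, ?_, ?_⟩
    · have e2 : g * t = t * z * g := by rw [← hgt]; group
      calc t * g * (t * g) = t * (g * t) * g := by group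
        _ = t * (t * z * g) * g := by rw [e2]
        _ = (t * t) * z * (g * g) := by group
        _ = 1 := by rw [h.tt, one_mul, e, h.zz]
    · intro u hu
      calc t * g * u = t * (g * u) := by group
        _ = t * (u * g) := by rw [hgP u hu]
        _ = (t * u) * g := by group
        _ = (u * t) * g := by rw [h.Kt u hu.1]
        _ = _ := by group
    · calc t * g * t * (t * g)⁻¹ = t * (g * t * g⁻¹) * t⁻¹ := by group
        _ = t * (t * z) * t := by rw [hgt, h.t_inv]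
        _ = (t * t) * (z * t) := by group
        _ = t * z := by rw [h.tt, one_mul, h.tz]

end Hyp

end Cfsg.Agent.OddHalf.M23
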